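import Cfsg.Agent.Twisted.Groups.F4Inst
import Cfsg.Agent.KnownSimple.Multiplier.TwistedLevels

/-!
The levels of the unipotent subgroup of `²F₄(q)` and the leading parameters of its elements (helper53).
-/

set_option autoImplicit false
set_option linter.unusedSectionVars false

namespace Cfsg.Agent.Twisted.TypeF4

open ChevGroup ChevIsogeny Cfsg.Lie
open scoped commutatorElement

/-- the orbits of the positive roots, in the order of the series -/
def orbList : List (List (Fin 48)) :=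
  [[44, 47], [40, 46], [39, 45], [38, 43], [36, 42], [29, 41], [32, 37], [31, 35], [26, 34], [24, 33],
    [28, 30], [25, 27]]

/-- the terms of the central series -/
def lev (i : ℕ) : List (Fin MT.tab.n) :=
  MT.posList.filter fun r => (orbList.take i).any fun L => decide (r.val ∈ L.map Fin.val)

/-- the factors -/
def fac (i : Fin 12) : List (Fin MT.tab.n) := orbList.getD i.val []

/-- the long root of a factor -/
def rep (i : Fin 12) : Fin MT.tab.n :=
  ([47, 46, 45, 43, 42, 41, 32, 31, 26, 24, 30, 25] : List (Fin 48)).getD i.val 0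

/-- the roots carrying the chosen representatives of a factor -/
def sup (i : Fin 12) : List (Fin MT.tab.n) :=
  ([[44, 47], [40, 46], [39, 45], [38, 43], [36, 42], [29, 41, 44, 47], [32, 37], [31, 35, 40, 46],
    [26, 34, 36, 42], [24, 33], [28, 30], [25, 27, 28, 30]] : List (List (Fin 48))).getD i.val []

/-- the word carrying a fundamental orbit to the roots of `sup` -/
def supW (i : Fin 12) : List (Fin 2) :=
  ([[0, 1, 0], [1, 0], [1, 0, 1], [0, 1], [0], [0, 1, 0], [1], [1, 0], [0], [], [], []] :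
    List (List (Fin 2))).getD i.val []

/-- the roots that `supW` carries to `sup` -/
def sup0 (i : Fin 12) : List (Fin MT.tab.n) :=
  ([[28, 30], [28, 30], [33, 24], [33, 24], [28, 30], [27, 25, 28, 30], [33, 24], [27, 25, 28, 30],
    [27, 25, 28, 30], [33, 24], [28, 30], [27, 25, 28, 30]] : List (List (Fin 48))).getD i.val []

/-- the factor of the centre -/
def cen (i : Fin 12) : Fin 12 :=
  ([0, 1, 2, 3, 4, 0, 6, 1, 4, 9, 10, 10] : List (Fin 12)).getD i.val 0

theorem lev_ok : ∀ i : Fin 12, levelB MT PP (lev (i.val + 1)) (lev i.val) = true := by decide +kernel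

theorem lev_mono' : ∀ i : Fin 12, ∀ r ∈ lev i.val, r ∈ lev (i.val + 1) := by decide +kernel

theorem lev_top : ∀ r : Fin MT.tab.n, r ∈ lev 12 ↔ r ∈ MT.posList := by decide +kernel

theorem lev_zero : lev 0 = [] := by decide +kernel

theorem fac_top : ∀ i : Fin 12, topOf (lev (i.val + 1)) (lev i.val) = fac i := by decide +kernel

theorem fac_shape : ∀ i : Fin 12, ∃ a b : Fin MT.tab.n, fac i = [a, b] ∧ a ≠ b ∧ fd.O.rho a = b ∧
    fd.O.rho b = a ∧ ((rep i = a) ∨ (rep i = b)) ∧ a ∈ lev (i.val + 1) ∧ b ∈ lev (i.val + 1) ∧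
    IsoData.lf PP (rep i).val = 1 := by decide +kernel

theorem rho_lev : ∀ i : Fin 13, ∀ r ∈ lev i.val, fd.O.rho r ∈ lev i.val := by decide +kernel

theorem sup_lev : ∀ i : Fin 12, ∀ r ∈ sup i, r ∈ lev (i.val + 1) ∧
    (r ∈ lev i.val → r ∈ sup (cen i)) := by decide +kernel

theorem cen_small : ∀ i : Fin 12, cen i ≠ i → ∀ r ∈ sup (cen i), r ∈ sup i := by decide +kernel

theorem cen_cen : ∀ i : Fin 12, sup (cen i) = fac (cen i) ∧ (cen i).val ≤ i.val ∧
    ∀ r ∈ fac (cen i), r ∉ lev (cen i).val := by decide +kernel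

theorem sup_word : ∀ i : Fin 12, (∀ r ∈ sup0 i, (MT.S).actw (((supW i).map fd.O.wd).flatten) r ∈ sup i) ∧
    ∀ r ∈ sup i, (MT.S).actw (((supW i).map fd.O.wd).flatten).reverse r ∈ sup0 i := by
  decide +kernel

variable {F : Type*} [Field F] [Fintype F] {m : ℕ} {K : Rels chevF4 F}
  (Z : Frame (T := MT) K PP (2 ^ m) fd) (hK : Fintype.card F = 2 ^ (2 * m + 1))

set_option quotPrecheck false in
local notation "G₁" => genG MT K (f4Words F (2 ^ m))

/-- the elements of the group in the root groups of a list -/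
def Sub (L : List (Fin MT.tab.n)) : Subgroup ↥G₁ := (Sg (MT.rel K) (· ∈ L)).subgroupOf G₁

/-- a term of the series -/
abbrev FlF (i : ℕ) : Subgroup ↥G₁ := Sub (lev i)

theorem Sub_mono {L L' : List (Fin MT.tab.n)} (h : ∀ r ∈ L, r ∈ L') :
    (Sub L : Subgroup ↥G₁) ≤ Sub L' := fun _ hg => Sg_mono (MT.rel K) (T := (· ∈ L)) h hg

theorem FlF_zero : (FlF 0 : Subgroup ↥G₁) = ⊥ := by
  refine (Subgroup.eq_bot_iff_forall _).2 fun g hg => ?_
  have h : (g : ↥(chevF4.group F)) ∈ Sg (MT.rel K) (· ∈ lev 0) := hg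
  have : Sg (MT.rel K) (fun r => r ∈ lev 0) = ⊥ := Subgroup.closure_eq_bot_iff.2 (by
    rintro y ⟨r, t, hr, -⟩
    exact absurd hr (by rw [lev_zero]; exact List.not_mem_nil))
  rw [this, Subgroup.mem_bot] at h
  exact Subtype.ext h

theorem FlF_mono {i : ℕ} (hi : i < 12) : (FlF i : Subgroup ↥G₁) ≤ FlF (i + 1) :=
  Sub_mono (lev_mono' ⟨i, hi⟩)

theorem FlF_le {i j : ℕ} (hij : i ≤ j) (hj : j ≤ 12) : (FlF i : Subgroup ↥G₁) ≤ FlF j := by
  obtain ⟨k, rfl⟩ := Nat.exists_eq_add_of_le hij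
  induction k with
  | zero => simp
  | succ k ih => exact (ih (by omega) (by omega)).trans (FlF_mono (i := i + k) (by omega))

/-- the unipotent subgroup -/
abbrev UF : Subgroup ↥G₁ := FlF 12

theorem UF_mem {g : ↥G₁} : g ∈ (UF : Subgroup ↥G₁) ↔ (g : ↥(chevF4.group F)) ∈ (MT.rel K).U :=
  ⟨fun hg => Sg_mono (MT.rel K) (T := (· ∈ lev 12)) (fun r hr => mem_pl.1 ((lev_top r).1 hr)) hg,
    fun hg => Sg_mono (MT.rel K) (T := (MT.S).pos) (fun r hr => (lev_top r).2 (mem_pl.2 hr)) hg⟩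

variable (K) in
/-- the standard element of a factor -/
def Pf (i : Fin 12) (t : F) : ↥(chevF4.group F) :=
  prodX MT K (fac i) (two (rep i) t (t ^ 2 ^ m))

variable (K) in
/-- `g` has parameter `t` in the factor `i` -/
def Lead (m : ℕ) (i : Fin 12) (g : ↥(chevF4.group F)) (t : F) : Prop :=
  (Pf (m := m) K i t)⁻¹ * g ∈ Sg (MT.rel K) (· ∈ lev i.val)

include Z

omit [Fintype F] in
theorem prodX_two (a b : Fin MT.tab.n) (v : Fin MT.tab.n → F) :
    prodX MT K [a, b] v = (MT.rel K).x a (v a) * (MT.rel K).x b (v b) := by simp [prodX]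

theorem fac_mem_lev (i : Fin 12) (v : Fin MT.tab.n → F) :
    prodX MT K (fac i) v ∈ Sg (MT.rel K) (· ∈ lev (i.val + 1)) :=
  Z.Sg_mem_prodX (Q := (· ∈ lev (i.val + 1)))
    (fun r hr => by rw [← fac_top i] at hr; exact List.mem_of_mem_filter hr) v

theorem lev_le_U {i : ℕ} (hi : i ≤ 12) {g : ↥(chevF4.group F)}
    (hg : g ∈ Sg (MT.rel K) (· ∈ lev i)) : g ∈ (MT.rel K).U := by
  refine Sg_mono (MT.rel K) (T := (· ∈ lev i)) (fun r hr => ?_) hg
  exact mem_pl.1 (List.mem_of_mem_filter hr)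

theorem conj_low (i : Fin 12) {u g : ↥(chevF4.group F)} (hu : u ∈ (MT.rel K).U)
    (hg : g ∈ Sg (MT.rel K) (· ∈ lev i.val)) :
    u * g * u⁻¹ ∈ Sg (MT.rel K) (· ∈ lev i.val) :=
  Z.conj_level_U (lev_ok i) hu hg

theorem central' (i : Fin 12) {u g : ↥(chevF4.group F)} (hu : u ∈ (MT.rel K).U)
    (hg : g ∈ Sg (MT.rel K) (· ∈ lev (i.val + 1))) :
    ⁅g, u⁆ ∈ Sg (MT.rel K) (· ∈ lev i.val) :=
  Z.level_central (lev_ok i) hu hg

/-- products in a factor add modulo the lower term -/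
theorem fac_add (i : Fin 12) (v w : Fin MT.tab.n → F) :
    (prodX MT K (fac i) (v + w))⁻¹ * (prodX MT K (fac i) v * prodX MT K (fac i) w) ∈
      Sg (MT.rel K) (· ∈ lev i.val) := by
  obtain ⟨a, b, hf, -, -, -, -, ha, hb, -⟩ := fac_shape i
  have hA : ∀ x, (MT.rel K).x a x ∈ Sg (MT.rel K) (· ∈ lev (i.val + 1)) := fun x => x_mem_Sg _ ha x
  have hB : ∀ x, (MT.rel K).x b x ∈ (MT.rel K).U := fun x =>
    lev_le_U Z (show i.val + 1 ≤ 12 by omega) (x_mem_Sg _ hb x)
  have h1 := central' Z i (hB (v b)) (inv_mem (hA (w a)))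
  have h2 := conj_low Z i (inv_mem (mul_mem (hB (v b)) (hB (w b)))) h1
  rw [hf, prodX_two Z, prodX_two Z, prodX_two Z, Pi.add_apply, Pi.add_apply, (MT.rel K).x_add,
    (MT.rel K).x_add]
  convert h2 using 1
  simp only [commutatorElement_def]
  group

theorem sigma_low (i : Fin 12) {y : ↥(chevF4.group F)}
    (h : y ∈ Sg (MT.rel K) (· ∈ lev i.val)) : Z.σ y ∈ Sg (MT.rel K) (· ∈ lev i.val) := by
  induction h using Subgroup.closure_induction with
  | mem z hz =>
    obtain ⟨r, t, hr, rfl⟩ := hz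
    rw [σ_x' Z]
    exact x_mem_Sg _ (rho_lev ⟨i.val, by omega⟩ r hr) _
  | one => simp
  | mul a b _ _ ha hb => rw [map_mul]; exact mul_mem ha hb
  | inv a _ ha => rw [map_inv]; exact inv_mem ha

/-- fixed elements of a term have a parameter -/
theorem exists_lead (hK : Fintype.card F = 2 ^ (2 * m + 1)) (i : Fin 12) {g : ↥G₁}
    (hg : g ∈ (FlF (i.val + 1) : Subgroup ↥G₁)) :
    ∃ t, Lead K m i (g : ↥(chevF4.group F)) t := by
  classical
  have hl := lev_ok i
  have hl' := hl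
  simp only [levelB, Bool.and_eq_true, decide_eq_true_eq, List.all_eq_true] at hl'
  have hgL : (g : ↥(chevF4.group F)) ∈ Sg (MT.rel K) (· ∈ lev (i.val + 1)) := hg
  obtain ⟨v, hv⟩ := Z.exists_prodX_closed hl'.1.1.2 (hl'.1.1.1.1.nodup Z.posList_nodup) hgL
  have h1 := Z.level_split hl (M := lev (i.val + 1)) (List.Subset.refl _) v
  rw [fac_top i, ← hv] at h1
  obtain ⟨a, b, hf, hab, hρa, hρb, hrep, ha, hb, hlf⟩ := fac_shape i
  set w : Fin MT.tab.n → F := fun r =>
    if r = a then v b ^ IsoHyp.lam PP (2 ^ m) b.val else v a ^ IsoHyp.lam PP (2 ^ m) a.val with hw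
  -- `σ` of the product of a factor
  have hσ : (prodX MT K (fac i) w)⁻¹ * Z.σ (prodX MT K (fac i) v) ∈ Sg (MT.rel K) (· ∈ lev i.val) := by
    have e : Z.σ (prodX MT K (fac i) v) = (MT.rel K).x b (w b) * (MT.rel K).x a (w a) := by
      rw [hf, prodX_two Z, map_mul, σ_x' Z, σ_x' Z, hρa, hρb]
      simp [hw, hab.symm]
    rw [e, hf, prodX_two Z]
    have h2 := central' Z i (u := ((MT.rel K).x a (w a))⁻¹)
      (inv_mem (lev_le_U Z (show i.val + 1 ≤ 12 by omega) (x_mem_Sg _ ha _)))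
      (inv_mem (x_mem_Sg (MT.rel K) (T := (· ∈ lev (i.val + 1))) hb (w b)))
    convert h2 using 1
    simp only [commutatorElement_def]
    group
  have hgfix : Z.σ (g : ↥(chevF4.group F)) = g := fixed_gen Z hK _ g.2
  have h2 : Z.σ ((prodX MT K (fac i) v)⁻¹ * g) ∈ Sg (MT.rel K) (· ∈ lev i.val) :=
    sigma_low Z i h1
  rw [map_mul, map_inv, hgfix] at h2
  have h3 : (prodX MT K (fac i) w)⁻¹ * g ∈ Sg (MT.rel K) (· ∈ lev i.val) := by
    simpa [mul_assoc] using mul_mem hσ h2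
  have hadd := fac_add Z i v (w - v)
  rw [add_sub_cancel] at hadd
  have h4 : (prodX MT K (fac i) v)⁻¹ * prodX MT K (fac i) w ∈ Sg (MT.rel K) (· ∈ lev i.val) := by
    simpa [mul_assoc] using mul_mem h1 (inv_mem h3)
  have h5 := mul_mem h4 hadd
  simp only [mul_assoc, mul_inv_cancel_left, inv_mul_cancel_left] at h5
  have h6 := Z.level_lead hl (v := w - v) (by rwa [fac_top i])
  rw [fac_top i, hf] at h6
  have hwa : v b ^ IsoHyp.lam PP (2 ^ m) b.val = v a :=
    sub_eq_zero.1 (by simpa [hw] using h6 a (by simp))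
  have hwb : v a ^ IsoHyp.lam PP (2 ^ m) a.val = v b :=
    sub_eq_zero.1 (by simpa [hw, hab.symm] using h6 b (by simp))
  refine ⟨v (rep i), ?_⟩
  have hlam : IsoHyp.lam PP (2 ^ m) (rep i).val = 2 ^ m := by simp [IsoHyp.lam, hlf]
  show (prodX MT K (fac i) (two (rep i) (v (rep i)) (v (rep i) ^ 2 ^ m)))⁻¹ * _ ∈ _
  rw [Z.prodX_congr (w := v) fun r hr => ?_]
  · exact h1
  rw [hf] at hr
  simp only [List.mem_cons, List.not_mem_nil, or_false] at hr
  rcases hrep with e | e <;> rw [e] at hlam ⊢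
  · rw [hlam] at hwb
    rcases hr with rfl | rfl <;> simp [two, hab.symm, hwb]
  · rw [hlam] at hwa
    rcases hr with rfl | rfl <;> simp [two, hab, hwa]

theorem lead_unique (i : Fin 12) {g : ↥(chevF4.group F)} {t u : F} (ht : Lead K m i g t)
    (hu : Lead K m i g u) : t = u := by
  obtain ⟨a, b, hf, hab, -, -, hrep, -, -, -⟩ := fac_shape i
  set v := two (rep i) t (t ^ 2 ^ m)
  set w := two (rep i) u (u ^ 2 ^ m)
  have h4 : (prodX MT K (fac i) v)⁻¹ * prodX MT K (fac i) w ∈ Sg (MT.rel K) (· ∈ lev i.val) := by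
    simpa [Lead, Pf, mul_assoc] using mul_mem ht (inv_mem hu)
  have hadd := fac_add Z i v (w - v)
  rw [add_sub_cancel] at hadd
  have h5 := mul_mem h4 hadd
  simp only [mul_assoc, mul_inv_cancel_left, inv_mul_cancel_left] at h5
  have h6 := Z.level_lead (lev_ok i) (v := w - v) (by rwa [fac_top i])
  rw [fac_top i, hf] at h6
  have h7 := h6 (rep i) (by rcases hrep with e | e <;> simp [e])
  exact (sub_eq_zero.1 (by simpa [v, w, two] using h7)).symm

theorem lead_mul (hK : Fintype.card F = 2 ^ (2 * m + 1)) (i : Fin 12) {g h : ↥(chevF4.group F)}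
    {t u : F} (ht : Lead K m i g t) (hu : Lead K m i h u) : Lead K m i (g * h) (t + u) := by
  obtain ⟨-, hadd, -⟩ := pow_facts hK
  have h1 := fac_add Z i (two (rep i) t (t ^ 2 ^ m)) (two (rep i) u (u ^ 2 ^ m))
  rw [Z.prodX_congr (v := two (rep i) t (t ^ 2 ^ m) + two (rep i) u (u ^ 2 ^ m))
    (w := two (rep i) (t + u) ((t + u) ^ 2 ^ m)) fun r _ => by
      simp only [Pi.add_apply, two]
      split_ifs
      · rfl
      · exact (hadd t u).symm] at h1
  have hU : Pf (m := m) K i u ∈ (MT.rel K).U :=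
    lev_le_U Z (show i.val + 1 ≤ 12 by omega) (fac_mem_lev Z i _)
  have := mul_mem h1 (mul_mem (conj_low Z i (inv_mem hU) ht) hu)
  simpa [Lead, Pf, mul_assoc] using this

theorem lead_zero (hK : Fintype.card F = 2 ^ (2 * m + 1)) (i : Fin 12) {g : ↥(chevF4.group F)} :
    Lead K m i g 0 ↔ g ∈ Sg (MT.rel K) (· ∈ lev i.val) := by
  have e : prodX MT K (fac i) (two (rep i) (0 : F) (0 ^ 2 ^ m)) = 1 :=
    List.prod_eq_one fun y hy => by
      obtain ⟨r, -, rfl⟩ := List.mem_map.1 hy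
      show (MT.rel K).x r (two (rep i) (0 : F) (0 ^ 2 ^ m) r) = 1
      have : two (rep i) (0 : F) (0 ^ 2 ^ m) r = 0 := by
        simp [two, zero_pow (pow_ne_zero m (two_ne_zero : (2 : ℕ) ≠ 0))]
      rw [this]
      exact (MT.rel K).x_zero r
  rw [Lead, Pf, e, inv_one, one_mul]

end Cfsg.Agent.Twisted.TypeF4
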