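import Cfsg.Agent.KnownSimple.Multiplier.RankLev
import Cfsg.Agent.Lib.ChevCore.GoodAll
import Cfsg.Agent.Lib.ChevCore.RankOneHom
import Cfsg.Agent.Twisted.Groups.F4Inst

/-!
The rank one subgroup of `²F₄(q)` of the commuting orbit as an image of `SL_2(q)` (helper53).
-/

set_option autoImplicit false
set_option linter.unusedSectionVars false

namespace Cfsg.Agent.Twisted.TypeF4

open ChevGroup ChevIsogeny Cfsg.Lie
open Cfsg.Agent.ChevCore (slU slL pn ph PairRel exists_sl_hom sl_generated)

universe w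

theorem pair0_commute : ∀ r ∈ ([24, (MT.S).neg 24] : List (Fin MT.tab.n)),
    ∀ s ∈ ([33, (MT.S).neg 33] : List (Fin MT.tab.n)), PP.commuteB chevF4 r.val s.val = true := by
  decide +kernel

variable {F : Type w} [Field F] [Fintype F] {m : ℕ} {K : Rels chevF4 F}
  (Z : Frame (T := MT) K PP (2 ^ m) fd) (hK : Fintype.card F = 2 ^ (2 * m + 1))

set_option quotPrecheck false in
local notation "G₁" => genG MT K (f4Words F (2 ^ m))

theorem root_pairRel (r : Fin MT.tab.n) :
    PairRel (fun t : F => (MT.rel K).x r t) (fun t : F => (MT.rel K).x ((MT.S).neg r) t) := by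
  have hG : ChevCore.Good chevF4 := ChevCore.good_of_mem (by simp)
  have P := hG.pairRel_root (F := F) (MT.lt r)
  have e : ∀ (s : Fin MT.tab.n) (t : F), (((MT.rel K).x s t : ↥(chevF4.group F)) : GL chevF4.Idx F) =
      ChevCore.xg chevF4 F s.val t := fun s t => Units.ext (by rw [hG.val_xg]; rfl)
  have en : ((MT.S).neg r).val = chevF4.neg r.val := MT.neg_eq r
  refine ⟨fun a b => Subtype.ext ?_, fun a b => Subtype.ext ?_, fun a b ha hb => Subtype.ext ?_,
    fun a t ha => Subtype.ext ?_, fun a t ha => Subtype.ext ?_, fun t => Subtype.ext ?_⟩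
  · simpa [e, en] using P.x_add a b
  · simpa [e, en] using P.y_add a b
  · simpa [ph, pn, e, en] using P.h_mul a b ha hb
  · simpa [ph, pn, e, en] using P.h_x a t ha
  · simpa [ph, pn, e, en] using P.h_y a t ha
  · simpa [ph, pn, e, en] using P.n_x t

/-- the homomorphism of a root -/
noncomputable def rootHom (r : Fin MT.tab.n) :
    Matrix.SpecialLinearGroup (Fin 2) F →* ↥(chevF4.group F) :=
  (exists_sl_hom (root_pairRel (K := K) r)).choose

theorem rootHom_U (r : Fin MT.tab.n) (t : F) : rootHom (K := K) r (slU t) = (MT.rel K).x r t :=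
  (exists_sl_hom (root_pairRel (K := K) r)).choose_spec.1 t

theorem rootHom_L (r : Fin MT.tab.n) (t : F) :
    rootHom (K := K) r (slL t) = (MT.rel K).x ((MT.S).neg r) t :=
  (exists_sl_hom (root_pairRel (K := K) r)).choose_spec.2.1 t

theorem rootHom_pn (r : Fin MT.tab.n) (a : F) :
    rootHom (K := K) r (pn slU slL a) = (MT.rel K).nr r a := by
  rw [pn, map_mul, map_mul, rootHom_U, rootHom_L]; rfl

theorem rootHom_ph (r : Fin MT.tab.n) (a : F) :
    rootHom (K := K) r (ph slU slL a) = (MT.rel K).hr r a := by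
  rw [ph, map_mul, rootHom_pn, rootHom_pn]; rfl

theorem map_slU {E : Type*} [Field E] (f : E →+* F) (t : E) :
    Matrix.SpecialLinearGroup.map f (slU t) = slU (f t) ∧
      Matrix.SpecialLinearGroup.map f (slL t) = slL (f t) := by
  constructor <;> ext i j <;> fin_cases i <;> fin_cases j <;>
    simp [ChevCore.coe_slU, ChevCore.coe_slL, Matrix.SpecialLinearGroup.map_apply_coe]

theorem map_pn {E : Type*} [Field E] (f : E →+* F) (a : E) :
    Matrix.SpecialLinearGroup.map f (pn slU slL a) = pn slU slL (f a) ∧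
      Matrix.SpecialLinearGroup.map f (ph slU slL a) = ph slU slL (f a) := by
  have h : ∀ a : E, Matrix.SpecialLinearGroup.map f (pn slU slL a) = pn slU slL (f a) := fun a => by
    rw [pn, map_mul, map_mul, (map_slU f _).1, (map_slU f _).2, map_neg, map_inv₀]; rfl
  exact ⟨h a, by rw [ph, map_mul, h, h, map_neg, map_one]; rfl⟩

include Z hK

/-- the Frobenius power -/
noncomputable def frob : F →+* F where
  toFun a := a ^ 2 ^ m
  map_one' := one_pow _
  map_mul' a b := mul_pow a b _
  map_zero' := zero_pow (pow_ne_zero m two_ne_zero)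
  map_add' := (pow_facts hK).2.1

theorem frob_apply (a : F) : frob hK a = a ^ 2 ^ m := rfl

theorem pair_hom_commute (g g' : Matrix.SpecialLinearGroup (Fin 2) F) :
    Commute (rootHom (K := K) 24 g) (rootHom (K := K) 33 g') := by
  have := hK
  have h1 := pair0_commute 24 (by simp) 33 (by simp)
  have h2 := pair0_commute 24 (by simp) ((MT.S).neg 33) (by simp)
  have h3 := pair0_commute ((MT.S).neg 24) (by simp) 33 (by simp)
  have h4 := pair0_commute ((MT.S).neg 24) (by simp) ((MT.S).neg 33) (by simp)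
  have gen : ∀ (u : Fin MT.tab.n) (y : Matrix.SpecialLinearGroup (Fin 2) F) (z : ↥(chevF4.group F)),
      (∀ t, Commute ((MT.rel K).x u t) z) → (∀ t, Commute ((MT.rel K).x ((MT.S).neg u) t) z) →
      Commute (rootHom (K := K) u y) z := by
    intro u y z hz hz'
    induction sl_generated y using Subgroup.closure_induction with
    | mem y hy =>
      rcases hy with ⟨t, rfl⟩ | ⟨t, rfl⟩
      · rw [rootHom_U]; exact hz t
      · rw [rootHom_L]; exact hz' t
    | one => rw [map_one]; exact Commute.one_left z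
    | mul a b _ _ ha hb => rw [map_mul]; exact ha.mul_left hb
    | inv a _ ha => rw [map_inv]; exact ha.inv_left
  refine gen 24 g _ (fun t => ?_) (fun t => ?_) <;> refine (gen 33 g' _ (fun u => ?_) (fun u => ?_)).symm
  · exact (Z.commute_x h1 t u).symm
  · exact (Z.commute_x h2 t u).symm
  · exact (Z.commute_x h3 t u).symm
  · exact (Z.commute_x h4 t u).symm

/-- `SL_2(q)` inside `²F₄(q)` -/
noncomputable def levi0 : Matrix.SpecialLinearGroup (Fin 2) F →* ↥(chevF4.group F) :=
  MonoidHom.mk'
    (fun g => rootHom (K := K) 24 g * rootHom (K := K) 33 (Matrix.SpecialLinearGroup.map (frob hK) g))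
    (fun g g' => by
      simp only [map_mul]
      have c := pair_hom_commute Z hK g' (Matrix.SpecialLinearGroup.map (frob hK) g)
      calc rootHom (K := K) 24 g * rootHom (K := K) 24 g' *
            (rootHom (K := K) 33 (Matrix.SpecialLinearGroup.map (frob hK) g) *
              rootHom (K := K) 33 (Matrix.SpecialLinearGroup.map (frob hK) g'))
          = rootHom (K := K) 24 g * (rootHom (K := K) 24 g' * rootHom (K := K) 33 (Matrix.SpecialLinearGroup.map (frob hK) g)) *
              rootHom (K := K) 33 (Matrix.SpecialLinearGroup.map (frob hK) g') := by group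
        _ = _ := by rw [c.eq]; group)

theorem levi0_apply (g : Matrix.SpecialLinearGroup (Fin 2) F) : levi0 Z hK g =
    rootHom (K := K) 24 g * rootHom (K := K) 33 (Matrix.SpecialLinearGroup.map (frob hK) g) := rfl

theorem levi0_torus (a : Fˣ) : levi0 Z hK (ph slU slL (a : F)) = tor MT K (cvec m a 1) := by
  rw [levi0_apply, (map_pn _ _).2, rootHom_ph, rootHom_ph, frob_apply Z hK,
    Z.tor_eq_prod (L := [1, 2, 3, 0]) (by decide)]
  obtain ⟨c0, c1, c2, c3⟩ := cvec_val Z a (1 : Fˣ)
  have h1 : ∀ r, (MT.rel K).hr r (1 : F) = 1 := fun r => by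
    show (MT.rel K).nr r 1 * (MT.rel K).nr r (-1) = 1
    rw [← (MT.rel K).nr_inv, mul_inv_cancel]
  simp only [List.map_cons, List.map_nil, List.prod_cons, List.prod_nil, mul_one, c0, c1, c2, c3,
    one_pow, Units.val_one, h1, one_mul, Units.val_pow_eq_pow_val]
  rfl

theorem levi0_U (t : F) : levi0 Z hK (slU t) = pairW K m t ∧ levi0 Z hK (slL t) = pairW' K m t := by
  have hc : Commute ((MT.rel K).x (24 : Fin MT.tab.n) t) ((MT.rel K).x 33 (t ^ 2 ^ m)) :=
    Z.commute_x (pair0_commute 24 (by simp) 33 (by simp)) _ _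
  have hc' : Commute ((MT.rel K).x ((MT.S).neg (24 : Fin MT.tab.n)) t)
      ((MT.rel K).x ((MT.S).neg 33) (t ^ 2 ^ m)) :=
    Z.commute_x (pair0_commute ((MT.S).neg 24) (by simp) ((MT.S).neg 33) (by simp)) _ _
  constructor
  · rw [levi0_apply, (map_slU _ _).1, rootHom_U, rootHom_U, frob_apply Z hK, hc.eq]
    simp [pairW, prodX, two]
  · rw [levi0_apply, (map_slU _ _).2, rootHom_L, rootHom_L, frob_apply Z hK, hc'.eq,
      show (MT.S).neg (24 : Fin MT.tab.n) = 23 from Fin.ext rfl,
      show (MT.S).neg (33 : Fin MT.tab.n) = 14 from Fin.ext rfl]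
    simp [pairW', prodX, two]

theorem cvec_inj {a b : Fˣ} (h : tor MT K (cvec m a b) = 1) : a = 1 ∧ b = 1 := by
  have := hK
  have h1 := Z.pow_eq_one_of_tor torOk inv_ok h
  rw [pow_one] at h1
  exact ⟨congrFun h1 3, congrFun h1 2⟩

theorem isLevi0 : (gens Z hK).data.IsLevi 0 (levi0 Z hK) where
  upper_mem t := by rw [(levi0_U Z hK t).1]; exact pairW_mem_X Z hK t
  upper_onto a ha := by
    obtain ⟨t, rfl⟩ := cls0 Z ha.2 ((gens Z hK).fixed a ha.1)
    exact ⟨t, (levi0_U Z hK t).1⟩
  upper_inj t h := by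
    rw [(levi0_U Z hK t).1, pairW, Z.prodX_perm (L := [33, 24]) (L' := [24, 33]) (by decide)
      (list_ok Z _ (by decide))] at h
    have h0 : prodX MT K [24, 33] (two 33 (t ^ 2 ^ m) t) = prodX MT K [24, 33] (fun _ => (0 : F)) := by
      rw [h]; simp [prodX, RootRel.x_zero]
    have := Z.prodX_inj (L := [24, 33]) (by decide +kernel) h0 24 (by decide)
    simpa [two] using this
  lower_mem t := by
    rw [(levi0_U Z hK t).2]
    exact ⟨(pairW_mem Z t).2,
      Z.Sg_mem_prodX (Q := fun r => (MT.S).neg r ∈ fd.O.cls 0) (by decide +kernel) _⟩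
  weyl := by
    rw [levi0_apply, (map_pn _ _).1, rootHom_pn, rootHom_pn, map_one]
    show _ = nj Z 0
    rw [nj, if_pos rfl, Z.nJ_eq 0 refl0_ok, show fd.orth 0 = [24, 33] from rfl]
    simp
  torus a ha := by
    rw [show a = ((Units.mk0 a ha : Fˣ) : F) from rfl, levi0_torus Z hK]
    exact Z.tor_mem_H _
  torus_inj a ha h := by
    rw [show a = ((Units.mk0 a ha : Fˣ) : F) from rfl, levi0_torus Z hK] at h
    exact congrArg Units.val (cvec_inj Z hK h).1

theorem Lev0_eq : (gens Z hK).data.Lev 0 = (levi0 Z hK).range := by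
  have h := isLevi0 Z hK
  refine le_antisymm (sup_le h.X_le_range fun g hg => h.mem_range_of_Vk hg.1 hg.2) ?_
  rintro _ ⟨g, rfl⟩
  induction sl_generated g using Subgroup.closure_induction with
  | mem y hy =>
    rcases hy with ⟨t, rfl⟩ | ⟨t, rfl⟩
    · exact (gens Z hK).data.X_le_Lev 0 (h.upper_mem t)
    · exact le_sup_right (a := (gens Z hK).data.X 0)
        (show levi0 Z hK (slL t) ∈ G₁ ⊓ (gens Z hK).data.Vk 0 from h.lower_mem t)
  | one => rw [map_one]; exact one_mem _
  | mul a b _ _ ha hb => rw [map_mul]; exact mul_mem ha hb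
  | inv a _ ha => rw [map_inv]; exact inv_mem ha

end Cfsg.Agent.Twisted.TypeF4
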