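import Cfsg.Agent.KnownSimple.Multiplier.F4.Reps

/-!
The torus of `²F₄(q)` in the parameters given by two fundamental weights, and the weights of the factors
(helper53).
-/

set_option autoImplicit false
set_option linter.unusedSectionVars false

namespace Cfsg.Agent.Twisted.TypeF4

open ChevGroup ChevIsogeny Cfsg.Lie

/-- the coefficients of the weight of a factor -/
def tbl (i : Fin 12) : ℤ × ℤ × ℤ × ℤ :=
  ([(2, 2, 3, 4), (1, 2, 3, 4), (1, 2, 2, 4), (1, 2, 2, 2), (1, 2, 1, 2), (0, 2, 1, 2), (1, 0, 2, 2),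
    (1, 0, 1, 2), (1, 0, 1, 0), (1, 0, 0, 0), (0, 0, 1, 2), (0, 0, 1, 0)] :
      List (ℤ × ℤ × ℤ × ℤ)).getD i.val (0, 0, 0, 0)

/-- the exponent of the first parameter -/
def expA (e : ℤ) (i : Fin 12) : ℤ := (tbl i).1 + (tbl i).2.1 * e

/-- the exponent of the second parameter -/
def expB (e : ℤ) (i : Fin 12) : ℤ := (tbl i).2.2.1 + (tbl i).2.2.2 * e

/-- the pairs of factors with proportional weights -/
def special (i j : Fin 12) : Bool :=
  decide ((i.val, j.val) ∈ [(0, 5), (1, 7), (4, 8), (10, 11)])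

/-- twice the middle coefficient of the determinant of two weights -/
def detB (i j : Fin 12) : ℤ :=
  2 * ((tbl i).1 * (tbl j).2.2.2 + (tbl i).2.1 * (tbl j).2.2.1 - (tbl i).2.2.1 * (tbl j).2.1 -
    (tbl i).2.2.2 * (tbl j).1)

/-- the reduced constant coefficient of the determinant of two weights -/
def detC (i j : Fin 12) : ℤ :=
  (tbl i).2.1 * (tbl j).2.2.2 - (tbl i).2.2.2 * (tbl j).2.1 +
    2 * ((tbl i).1 * (tbl j).2.2.1 - (tbl i).2.2.1 * (tbl j).1)

theorem det_tbl : ∀ i j : Fin 12, i < j → special i j = false →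
    -30 ≤ detB i j ∧ detB i j ≤ 30 ∧ -30 ≤ detC i j ∧ detC i j ≤ 30 ∧ (detB i j ≠ 0 ∨ detC i j ≠ 0) ∧
      ∀ k : Fin 6, (detB i j * 2 ^ (k.val + 1) + detC i j) % (2 * (2 ^ (k.val + 1)) ^ 2 - 1) ≠ 0 := by
  decide +kernel

theorem det_ne {i j : Fin 12} (h : i < j) (hs : special i j = false) {m : ℕ} (hm : 1 ≤ m) :
    ¬ (2 * ((2 : ℤ) ^ m) ^ 2 - 1) ∣
      expA (2 ^ m) i * expB (2 ^ m) j - expB (2 ^ m) i * expA (2 ^ m) j := by
  intro hd
  obtain ⟨b1, b2, c1, c2, hne, hsmall⟩ := det_tbl i j h hs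
  set e : ℤ := 2 ^ m with he
  set M : ℤ := 2 * e ^ 2 - 1 with hM
  have h2 : M ∣ detB i j * e + detC i j := by
    have hid : detB i j * e + detC i j = 2 * (expA e i * expB e j - expB e i * expA e j) -
        ((tbl i).2.1 * (tbl j).2.2.2 - (tbl i).2.2.2 * (tbl j).2.1) * M := by
      simp only [detB, detC, expA, expB, hM]; ring
    rw [hid]
    exact dvd_sub (hd.mul_left 2) (dvd_mul_left _ _)
  rcases Nat.lt_or_ge m 7 with hm7 | hm7
  · have h3 := hsmall ⟨m - 1, by omega⟩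
    simp only [show m - 1 + 1 = m by omega] at h3
    exact h3 (Int.emod_eq_zero_of_dvd h2)
  · have h128 : (128 : ℤ) ≤ e := by
      have : (2 : ℤ) ^ 7 ≤ 2 ^ m := pow_le_pow_right₀ (by norm_num) hm7
      norm_num at this
      exact this
    have hsq : 128 * e ≤ e ^ 2 := by nlinarith
    have hub : detB i j * e + detC i j ≤ 30 * e + 30 := by nlinarith
    have hlb : -(30 * e + 30) ≤ detB i j * e + detC i j := by nlinarith
    have h0 : detB i j * e + detC i j = 0 :=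
      Int.eq_zero_of_abs_lt_dvd h2 (abs_lt.2 ⟨by omega, by omega⟩)
    rcases lt_trichotomy (detB i j) 0 with hb | hb | hb
    · have : detB i j * e ≤ -1 * e := mul_le_mul_of_nonneg_right (by omega) (by omega)
      omega
    · rw [hb] at hne h0
      rcases hne with hb' | hc'
      · exact hb' rfl
      · exact hc' (by omega)
    · have : 1 * e ≤ detB i j * e := mul_le_mul_of_nonneg_right (by omega) (by omega)
      omega

theorem rep_vec : ∀ i : Fin 12, fd.O.vec (rep i) 0 = (tbl i).2.1 ∧ fd.O.vec (rep i) 1 = (tbl i).2.2.2 ∧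
    fd.O.vec (rep i) 2 = (tbl i).2.2.1 ∧ fd.O.vec (rep i) 3 = (tbl i).1 := by decide +kernel

variable {F : Type*} [Field F] [Fintype F] {m : ℕ} {K : Rels chevF4 F}
  (Z : Frame (T := MT) K PP (2 ^ m) fd) (hK : Fintype.card F = 2 ^ (2 * m + 1))

/-- the weight of a factor -/
def wgt (m : ℕ) (i : Fin 12) (s : Fˣ × Fˣ) : Fˣ :=
  s.1 ^ expA (2 ^ m) i * s.2 ^ expB (2 ^ m) i

set_option quotPrecheck false in
local notation "G₁" => genG MT K (f4Words F (2 ^ m))

include hK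

theorem zpow_M (x : Fˣ) : x ^ (2 * ((2 : ℤ) ^ m) ^ 2 - 1) = 1 := by
  have h : (2 * ((2 : ℤ) ^ m) ^ 2 - 1) = ((Fintype.card F - 1 : ℕ) : ℤ) := by
    rw [hK, Nat.cast_sub Nat.one_le_two_pow]
    push_cast
    ring
  classical
  rw [h, zpow_natCast, ← Fintype.card_units]
  exact pow_card_eq_one

/-- a weight takes all values -/
theorem wgt_surj (i : Fin 12) (c : Fˣ) : ∃ s : Fˣ × Fˣ, wgt m i s = c := by
  set e : ℤ := 2 ^ m with he
  obtain ⟨x, y, k, hxy⟩ : ∃ x y k : ℤ, x * expA e i + y * expB e i = 1 + k * (2 * e ^ 2 - 1) := by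
    match i with
    | 0 => exact ⟨-(2 * e - 1), 2 * e - 1, 2, by simp [expA, expB, tbl]; ring⟩
    | 1 => exact ⟨2 * e - 1, 0, 2, by simp [expA, tbl]; ring⟩
    | 2 => exact ⟨2 * e - 1, 0, 2, by simp [expA, tbl]; ring⟩
    | 3 => exact ⟨2 * e - 1, 0, 2, by simp [expA, tbl]; ring⟩
    | 4 => exact ⟨2 * e - 1, 0, 2, by simp [expA, tbl]; ring⟩
    | 5 => exact ⟨-1, 1, 0, by simp [expA, expB, tbl]⟩
    | 6 => exact ⟨1, 0, 0, by simp [expA, tbl]⟩
    | 7 => exact ⟨1, 0, 0, by simp [expA, tbl]⟩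
    | 8 => exact ⟨1, 0, 0, by simp [expA, tbl]⟩
    | 9 => exact ⟨1, 0, 0, by simp [expA, tbl]⟩
    | 10 => exact ⟨0, 2 * e - 1, 2, by simp [expB, tbl]; ring⟩
    | 11 => exact ⟨0, 1, 0, by simp [expB, tbl]⟩
  refine ⟨(c ^ x, c ^ y), ?_⟩
  show (c ^ x) ^ _ * (c ^ y) ^ _ = c
  rw [← zpow_mul, ← zpow_mul, ← zpow_add, ← he, hxy, zpow_add, zpow_one, mul_comm k, zpow_mul,
    zpow_M hK, one_zpow, mul_one]

/-- a torus element kills one weight and not the other -/
theorem wgt_separate (hm : 1 ≤ m) {i j : Fin 12} (h : i < j) (hs : special i j = false) :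
    ∃ s : Fˣ × Fˣ, wgt m i s = 1 ∧ wgt m j s ≠ 1 := by
  obtain ⟨g, hg⟩ := IsCyclic.exists_ofOrder_eq_natCard (α := Fˣ)
  set e : ℤ := 2 ^ m with he
  refine ⟨(g ^ (-expB e i), g ^ expA e i), ?_, fun h1 => det_ne h hs hm ?_⟩
  · show (g ^ (-expB e i)) ^ _ * (g ^ expA e i) ^ _ = 1
    rw [← zpow_mul, ← zpow_mul, ← zpow_add, ← he]
    convert zpow_zero g using 2
    ring
  · have h2 : (g ^ (-expB e i)) ^ expA e j * (g ^ expA e i) ^ expB e j = 1 := h1
    rw [← zpow_mul, ← zpow_mul, ← zpow_add, ← orderOf_dvd_iff_zpow_eq_one, hg, Nat.card_units,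
      Nat.card_eq_fintype_card, hK, Nat.cast_sub Nat.one_le_two_pow] at h2
    convert h2 using 1
    · push_cast
      ring
    · rw [← he]; ring

include Z

theorem chi_rho {c : Fin MT.tab.l → Fˣ} (hc : Z.sig pre c = c) (r : Fin MT.tab.n) :
    chi MT c (fd.O.rho r) = chi MT c r ^ IsoHyp.lam PP (2 ^ m) r.val := by
  have := hK
  have h := congrArg Z.σ (Z.tor_conj c r 1)
  rw [map_mul, map_mul, map_inv, Z.σ_tor (pre_eq Z), hc, σ_x' Z, σ_x' Z, one_pow, Z.tor_conj,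
    mul_one, mul_one] at h
  exact Units.ext (by rw [Units.val_pow_eq_pow_val]; exact Z.iso.x_injective _ h)

omit [Fintype F] hK Z in
/-- the values at the two simple roots of the orbits -/
def uv (m : ℕ) (p : Fˣ × Fˣ) : Fˣ × Fˣ :=
  (chi MT (cvec m p.1 p.2) 24, chi MT (cvec m p.1 p.2) 25)

theorem uv_bij : Function.Bijective (uv (F := F) m) := by
  refine Finite.injective_iff_bijective.1 fun p p' h => ?_
  obtain ⟨h24, h25⟩ := Prod.ext_iff.1 h
  simp only [uv] at h24 h25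
  have hs : ∀ j, chi MT (cvec m p.1 p.2) ((MT.S).simple j) = chi MT (cvec m p'.1 p'.2) ((MT.S).simple j) := by
    intro j
    have c1 := sig_cvec Z hK p.1 p.2
    have c2 := sig_cvec Z hK p'.1 p'.2
    match j with
    | 0 =>
      show chi MT _ (33 : Fin MT.tab.n) = chi MT _ (33 : Fin MT.tab.n)
      rw [show (33 : Fin MT.tab.n) = fd.O.rho 24 from Fin.ext rfl, chi_rho Z hK c1, chi_rho Z hK c2, h24]
    | 1 =>
      show chi MT _ (27 : Fin MT.tab.n) = chi MT _ (27 : Fin MT.tab.n)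
      rw [show (27 : Fin MT.tab.n) = fd.O.rho 25 from Fin.ext rfl, chi_rho Z hK c1, chi_rho Z hK c2, h25]
    | 2 => exact h25
    | 3 => exact h24
  have ht : tor MT K (cvec m p.1 p.2 * (cvec m p'.1 p'.2)⁻¹) = 1 := by
    rw [← Z.torHom_apply, map_mul, map_inv, Z.torHom_apply, Z.torHom_apply, mul_inv_eq_one]
    exact Z.tor_ext fun s => by
      rw [Z.chi_eq torOk _ s, Z.chi_eq torOk _ s]
      exact Finset.prod_congr rfl fun j _ => by rw [hs j]
  have h1 := Z.pow_eq_one_of_tor torOk inv_ok ht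
  rw [pow_one, mul_inv_eq_one] at h1
  exact Prod.ext (congrFun h1 3) (congrFun h1 2)

/-- the torus element with given fundamental values -/
noncomputable def hT (s : Fˣ × Fˣ) : ↥G₁ :=
  let p := (Equiv.ofBijective _ (uv_bij Z hK)).symm s
  ⟨tor MT K (cvec m p.1 p.2), torus_mem Z hK _ (sig_cvec Z hK p.1 p.2)⟩

theorem hT_comm (s t : Fˣ × Fˣ) : Commute (hT Z hK s) (hT Z hK t) := by
  refine Subtype.ext ?_
  show tor MT K _ * tor MT K _ = tor MT K _ * tor MT K _
  rw [← Z.tor_mul, ← Z.tor_mul, mul_comm]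

theorem hT_Sub {L : List (Fin MT.tab.n)} (s : Fˣ × Fˣ) {g : ↥G₁} (hg : g ∈ (Sub L : Subgroup ↥G₁)) :
    hT Z hK s * g * (hT Z hK s)⁻¹ ∈ (Sub L : Subgroup ↥G₁) :=
  H_conj_Sg (MT.rel K) (Z.tor_mem_H _) hg

theorem hT_lead (i : Fin 12) (s : Fˣ × Fˣ) {g : ↥G₁} {t : F}
    (hg : Lead K m i (g : ↥(chevF4.group F)) t) :
    Lead K m i ((hT Z hK s * g * (hT Z hK s)⁻¹ : ↥G₁) : ↥(chevF4.group F))
      ((wgt m i s : F) * t) := by
  set p := (Equiv.ofBijective _ (uv_bij Z hK)).symm s with hp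
  have hs := Equiv.apply_symm_apply (Equiv.ofBijective _ (uv_bij Z hK)) s
  rw [← hp] at hs
  have hu : chi MT (cvec m p.1 p.2) (24 : Fin MT.tab.n) = s.1 := congrArg Prod.fst hs
  have hv : chi MT (cvec m p.1 p.2) (25 : Fin MT.tab.n) = s.2 := congrArg Prod.snd hs
  set c := cvec m p.1 p.2 with hcd
  have hc : Z.sig pre c = c := sig_cvec Z hK p.1 p.2
  have hrep : chi MT c (rep i) = wgt m i s := by
    obtain ⟨v0, v1, v2, v3⟩ := rep_vec i
    have h33 : chi MT c (33 : Fin MT.tab.n) = s.1 ^ ((2 : ℤ) ^ m) := by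
      rw [show (33 : Fin MT.tab.n) = fd.O.rho 24 from Fin.ext rfl, chi_rho Z hK hc,
        (lam_val Z).2 24 (by decide), hu, ← zpow_natCast]
      push_cast
      rfl
    have h27 : chi MT c (27 : Fin MT.tab.n) = s.2 ^ ((2 : ℤ) ^ m) := by
      rw [show (27 : Fin MT.tab.n) = fd.O.rho 25 from Fin.ext rfl, chi_rho Z hK hc,
        (lam_val Z).2 25 (by decide), hv, ← zpow_natCast]
      push_cast
      rfl
    rw [Z.chi_eq torOk]
    show ∏ j : Fin 4, chi MT c ((MT.S).simple j) ^ fd.O.vec (rep i) j = _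
    rw [Fin.prod_univ_four]
    erw [v0, v1, v2, v3]
    show chi MT c (33 : Fin MT.tab.n) ^ _ * chi MT c (27 : Fin MT.tab.n) ^ _ *
      chi MT c (25 : Fin MT.tab.n) ^ _ * chi MT c (24 : Fin MT.tab.n) ^ _ = _
    rw [h33, h27, hu, hv, ← zpow_mul, ← zpow_mul, wgt, expA, expB, zpow_add, zpow_add,
      mul_comm ((2 : ℤ) ^ m), mul_comm ((2 : ℤ) ^ m) (tbl i).2.2.2]
    simp only [mul_comm, mul_left_comm, mul_assoc]
  obtain ⟨a, b, hf, hab, hρa, hρb, hr, ha, hb, hlf⟩ := fac_shape i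
  have hlam : IsoHyp.lam PP (2 ^ m) (rep i).val = 2 ^ m := by simp [IsoHyp.lam, hlf]
  have e : tor MT K c * Pf (m := m) K i t * (tor MT K c)⁻¹ = Pf (m := m) K i ((wgt m i s : F) * t) := by
    rw [Pf, Pf, Z.tor_prodX_conj]
    refine Z.prodX_congr fun r hr' => ?_
    rw [hf] at hr'
    simp only [List.mem_cons, List.not_mem_nil, or_false] at hr'
    rcases hr with er | er <;> rw [er] at hrep hlam ⊢ <;> rcases hr' with rfl | rfl
    · simp [two, hrep]
    · have := chi_rho Z hK hc a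
      rw [hρa, hlam, hrep] at this
      simp [two, hab.symm, this, mul_pow]
    · have := chi_rho Z hK hc b
      rw [hρb, hlam, hrep] at this
      simp [two, hab, this, mul_pow]
    · simp [two, hrep]
  show (Pf (m := m) K i _)⁻¹ * _ ∈ Sg (MT.rel K) (· ∈ lev i.val)
  rw [← e]
  have h1 := H_conj_Sg (MT.rel K) (Z.tor_mem_H c) hg
  convert h1 using 1
  show _ * (tor MT K c * (g : ↥(chevF4.group F)) * (tor MT K c)⁻¹) = _
  group

end Cfsg.Agent.Twisted.TypeF4
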