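import Cfsg.Agent.KnownSimple.Multiplier.F4.Levi0
import Cfsg.Agent.KnownSimple.Multiplier.F4.Torus
import Cfsg.Agent.KnownSimple.Multiplier.LevCells
import Cfsg.Agent.KnownSimple.Multiplier.CyclicGL
import Cfsg.Agent.KnownSimple.Multiplier.Sylow
import Cfsg.Agent.Lib.ChevCore.Parabolic

/-!
The rank one subgroup of the orbit of type `B₂` of `²F₄(q)`: a grading of the adjoint module preserved by
it, its torus, and the condition at the odd primes (helper53).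
-/

set_option autoImplicit false
set_option linter.unusedSectionVars false
set_option maxRecDepth 4000

namespace Cfsg.Agent.Twisted.TypeF4

open ChevGroup ChevIsogeny Cfsg.Lie
open Cfsg.Agent.KnownSimple
open Cfsg.Agent.ChevCore (SuppRel wc coef xg suppRel_one good_of_mem)

universe w

/-- the grading of the coordinates -/
noncomputable def gr (a : chevF4.Idx) : ℤ × ℤ := (wc chevF4 0 a, wc chevF4 3 a)

/-- the total degree -/
noncomputable def g03 (a : chevF4.Idx) : ℤ := wc chevF4 0 a + wc chevF4 3 a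

theorem lev1_coef : ∀ r : Fin MT.tab.n, (r ∈ fd.O.cls 1 ∨ (MT.S).neg r ∈ fd.O.cls 1) →
    coef chevF4 r.val 0 = 0 ∧ coef chevF4 r.val 3 = 0 := by decide +kernel

theorem out_coef : ∀ r : Fin MT.tab.n, r ∈ MT.posList → r ∉ fd.O.cls 1 →
    0 < coef chevF4 r.val 0 + coef chevF4 r.val 3 := by decide +kernel

theorem root_lt (r : Fin MT.tab.n) : r.val < chevF4.nroots := MT.lt r

/-- the piece of degree `(1, 0)` -/
def p4 (i : Fin 4) : chevF4.Idx :=
  Sum.inr ⟨([33, 34, 35, 37] : List ℕ).getD i.val 0, by revert i; decide +kernel⟩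

/-- the piece of degree `(0, 1)` -/
def p5 (i : Fin 5) : chevF4.Idx :=
  Sum.inr ⟨([24, 26, 29, 31, 32] : List ℕ).getD i.val 0, by revert i; decide +kernel⟩

theorem p4_inj : Function.Injective p4 := by decide +kernel

theorem p5_inj : Function.Injective p5 := by decide +kernel

theorem p4_coef : ∀ r : Fin chevF4.nroots, coef chevF4 r.val 0 = 1 → coef chevF4 r.val 3 = 0 →
    ∃ i : Fin 4, ([33, 34, 35, 37] : List ℕ).getD i.val 0 = r.val := by decide +kernel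

theorem p5_coef : ∀ r : Fin chevF4.nroots, coef chevF4 r.val 0 = 0 → coef chevF4 r.val 3 = 1 →
    ∃ i : Fin 5, ([24, 26, 29, 31, 32] : List ℕ).getD i.val 0 = r.val := by decide +kernel

theorem p4_gr' : ∀ i : Fin 4, coef chevF4 (([33, 34, 35, 37] : List ℕ).getD i.val 0) 0 = 1 ∧
    coef chevF4 (([33, 34, 35, 37] : List ℕ).getD i.val 0) 3 = 0 := by decide +kernel

theorem p5_gr' : ∀ i : Fin 5, coef chevF4 (([24, 26, 29, 31, 32] : List ℕ).getD i.val 0) 0 = 0 ∧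
    coef chevF4 (([24, 26, 29, 31, 32] : List ℕ).getD i.val 0) 3 = 1 := by decide +kernel

theorem p4_gr (i : Fin 4) : gr (p4 i) = (1, 0) := Prod.ext (p4_gr' i).1 (p4_gr' i).2

theorem p5_gr (i : Fin 5) : gr (p5 i) = (0, 1) := Prod.ext (p5_gr' i).1 (p5_gr' i).2

theorem p4_cls (a : chevF4.Idx) (h : gr a = (1, 0)) : a ∈ Set.range p4 := by
  rcases a with i | r
  · exact absurd (congrArg Prod.fst h) (by simp [gr, wc])
  · obtain ⟨i, hi⟩ := p4_coef r (congrArg Prod.fst h) (congrArg Prod.snd h)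
    exact ⟨i, congrArg Sum.inr (Fin.ext hi)⟩

theorem p5_cls (a : chevF4.Idx) (h : gr a = (0, 1)) : a ∈ Set.range p5 := by
  rcases a with i | r
  · exact absurd (congrArg Prod.snd h) (by simp [gr, wc])
  · obtain ⟨i, hi⟩ := p5_coef r (congrArg Prod.fst h) (congrArg Prod.snd h)
    exact ⟨i, congrArg Sum.inr (Fin.ext hi)⟩

theorem p5_sum : ∀ j : Fin MT.tab.l, (∑ i : Fin 5, chevF4.pairing ((MT.S).simple j).val
    (([24, 26, 29, 31, 32] : List ℕ).getD i.val 0)) = ([-5, 0, 0, 5] : List ℤ).getD j.val 0 := by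
  decide +kernel

theorem p4_moved : ∃ i j : Fin 4, i ≠ j ∧ ∃ r : Fin MT.tab.n,
    r.val = ([33, 34, 35, 37] : List ℕ).getD j.val 0 ∧
    ((MT.S).actw (fd.O.wd 1) r).val = ([33, 34, 35, 37] : List ℕ).getD i.val 0 ∧
    ([33, 34, 35, 37] : List ℕ).getD i.val 0 ≤ ([33, 34, 35, 37] : List ℕ).getD j.val 0 := by
  decide +kernel

theorem p4_pair : ∀ i : Fin MT.tab.l, chevF4.pairing ((MT.S).simple i).val 33 =
    ([2, -1, 0, 0] : List ℤ).getD i.val 0 := by decide +kernel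

variable {F : Type w} [Field F] [Fintype F] {m : ℕ} {K : Rels chevF4 F}

/-- the matrix of an element -/
abbrev mx (g : ↥(chevF4.group F)) : Matrix chevF4.Idx chevF4.Idx F :=
  ((g : GL chevF4.Idx F) : Matrix chevF4.Idx chevF4.Idx F)

theorem mx_mul (g h : ↥(chevF4.group F)) : mx (g * h) = mx g * mx h := rfl

theorem mx_one : mx (1 : ↥(chevF4.group F)) = 1 := rfl

theorem mx_x (r : Fin MT.tab.n) (t : F) : mx ((MT.rel K).x r t) =
    (xg chevF4 F r.val t : Matrix chevF4.Idx chevF4.Idx F) := by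
  rw [(good_of_mem (D := chevF4) (by simp)).val_xg]
  rfl

theorem mx_tor (c : Fin MT.tab.l → Fˣ) : mx (tor MT K c) =
    Matrix.diagonal (Sum.elim (fun _ => (1 : F)) fun s : Fin chevF4.nroots =>
      ((∏ i, c i ^ chevF4.pairing ((MT.S).simple i).val s.val : Fˣ) : F)) := by
  have key : ∀ L : List (Fin MT.tab.l),
      mx ((L.map fun i => (MT.rel K).hr ((MT.S).simple i) (c i : F)).prod) =
      Matrix.diagonal (Sum.elim (fun _ => (1 : F)) fun s : Fin chevF4.nroots =>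
        (((L.map fun i => c i ^ chevF4.pairing ((MT.S).simple i).val s.val).prod : Fˣ) : F)) := by
    intro L
    induction L with
    | nil =>
      rw [List.map_nil, List.prod_nil, mx_one, ← Matrix.diagonal_one]
      congr 1; funext a; rcases a with _ | _ <;> simp
    | cons i L ih =>
      rw [List.map_cons, List.prod_cons, mx_mul, ih,
        show mx ((MT.rel K).hr ((MT.S).simple i) (c i : F)) =
          chevF4.hMat F ((MT.S).simple i).val (c i : F) from MT.mat_hOf K _ _,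
        K.h_diag _ (MT.lt _) _ (c i).ne_zero, Matrix.diagonal_mul_diagonal]
      congr 1; funext a; rcases a with _ | _ <;> simp [Units.val_zpow_eq_zpow_val]
  rw [tor, key]
  congr 1

theorem supp_gen {P : chevF4.Idx → chevF4.Idx → Prop} (hP : ∀ a b c, P a b → P b c → P a c)
    {T : Fin MT.tab.n → Prop}
    (h : ∀ r, T r → ∀ a b : chevF4.Idx,
      (∃ k : ℕ, 1 ≤ k ∧ ∀ j < chevF4.rank, wc chevF4 j a = wc chevF4 j b + k * coef chevF4 r.val j) → P a b)
    {g : ↥(chevF4.group F)} (hg : g ∈ Sg (MT.rel K) T) : SuppRel P (mx g) := by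
  have hD : ChevCore.Good chevF4 := good_of_mem (by simp)
  have key : ∀ r t, T r → SuppRel P (mx ((MT.rel K).x r t)) := fun r t hr => by
    rw [mx_x]; exact hD.supp_xg (root_lt r) (h r hr) t
  induction hg using Subgroup.closure_induction'' with
  | mem y hy => obtain ⟨r, t, hr, rfl⟩ := hy; exact key r t hr
  | inv_mem y hy => obtain ⟨r, t, hr, rfl⟩ := hy; rw [← (MT.rel K).x_neg]; exact key r _ hr
  | one => rw [mx_one]; exact suppRel_one
  | mul a b _ _ ha hb => rw [mx_mul]; exact ha.mul hP hb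

variable (Z : Frame (T := MT) K PP (2 ^ m) fd) (hK : Fintype.card F = 2 ^ (2 * m + 1))

set_option quotPrecheck false in
local notation "G₁" => genG MT K (f4Words F (2 ^ m))

set_option quotPrecheck false in
local notation "DT" => Gens.data (gens Z hK)

include Z hK

/-- the subgroup preserves the grading -/
theorem Lev1_graded {g : ↥(chevF4.group F)} (hg : g ∈ (DT).Lev 1) {a b : chevF4.Idx}
    (h : gr a ≠ gr b) : mx g a b = 0 := by
  have hle : (DT).Lev 1 ≤ Sg (MT.rel K) fun r => r ∈ fd.O.cls 1 ∨ (MT.S).neg r ∈ fd.O.cls 1 :=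
    sup_le (fun x hx => Sg_mono _ (fun r hr => Or.inl hr) hx.2)
      (fun x hx => Sg_mono _ (fun r hr => Or.inr hr) hx.2)
  have h1 : SuppRel (fun a b => gr a = gr b) (mx g) := by
    refine supp_gen (fun a b c h1 h2 => h1.trans h2) (fun r hr a b hab => ?_) (hle hg)
    obtain ⟨k, -, hk⟩ := hab
    obtain ⟨e0, e3⟩ := lev1_coef r hr
    refine Prod.ext ?_ ?_
    · show wc chevF4 0 a = wc chevF4 0 b
      rw [hk 0 (by decide), e0, mul_zero, add_zero]
    · show wc chevF4 3 a = wc chevF4 3 b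
      rw [hk 3 (by decide), e3, mul_zero, add_zero]
  have h2 := h1 a b h
  rwa [Matrix.sub_apply, Matrix.one_apply_ne (fun e => h (by rw [e])), sub_zero] at h2

/-- the other positive root groups raise the degree -/
theorem Uo1_raises {c : ↥(chevF4.group F)} (hc : c ∈ (DT).Uo 1) {a b : chevF4.Idx}
    (h : ¬ g03 b < g03 a) : (mx c - 1) a b = 0 := by
  have h1 : SuppRel (fun a b => g03 b < g03 a) (mx c) := by
    refine supp_gen (fun a b c (h1 : g03 b < g03 a) (h2 : g03 c < g03 b) => lt_trans h2 h1) (fun r hr a b hab => ?_) hc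
    obtain ⟨k, hk1, hk⟩ := hab
    have hp := out_coef r (mem_pl.2 hr.1) hr.2
    have hk' : (1 : ℤ) ≤ k := by exact_mod_cast hk1
    show wc chevF4 0 b + wc chevF4 3 b < wc chevF4 0 a + wc chevF4 3 a
    rw [hk 0 (by decide), hk 3 (by decide)]
    nlinarith
  exact h1 a b h

theorem Lev1_clean : ∀ c ∈ (DT).Uo 1, ∀ h ∈ (DT).H1, c * h ∈ (DT).Lev 1 → c = 1 := by
  intro c hc h hh hch
  refine (MT.shapeR K).eq_one ?_
  show mx c = 1
  ext a b
  rw [← sub_eq_zero, ← Matrix.sub_apply]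
  by_cases hlt : g03 b < g03 a
  swap
  · exact Uo1_raises Z hK hc hlt
  have hne : gr a ≠ gr b := fun e => by
    have h0 := congrArg Prod.fst e
    have h3 := congrArg Prod.snd e
    simp only [gr, g03] at h0 h3 hlt
    omega
  have hab : a ≠ b := fun e => hne (by rw [e])
  have h0 := Lev1_graded Z hK hch hne
  have hdiag : ∀ x y : chevF4.Idx, x ≠ y → mx h x y = 0 := (MT.shapeR K).diag_of_H hh.2
  rw [mx_mul, Matrix.mul_apply, Finset.sum_eq_single b] at h0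
  · have hbb : mx h b b ≠ 0 := ((MT.shapeR K).tri_of_B ((MT.rel K).H_le_B hh.2)).2 b
    rw [Matrix.sub_apply, Matrix.one_apply_ne hab, sub_zero]
    exact (mul_eq_zero.1 h0).resolve_right hbb
  · intro x _ hx
    rw [hdiag x b hx, mul_zero]
  · simp

theorem nJ1_mem : (DT).nJ 1 ∈ (DT).Lev 1 := by
  have h1 : Z.og 1 1 ∈ (DT).Lev 1 := (DT).X_le_Lev 1 (Subgroup.mem_inf.2
    ⟨(og_mem Z hK 1).1, Subgroup.list_prod_mem _ fun y hy => by
      obtain ⟨r, hr, rfl⟩ := List.mem_map.1 hy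
      exact x_mem_Sg _ (T := fun r => r ∈ fd.O.cls 1) (Z.orth_cls 1 r hr) 1⟩)
  have h2 : Z.ogn 1 (-1) ∈ (DT).Lev 1 := by
    refine le_sup_right (a := (DT).X 1) (Subgroup.mem_inf.2 ⟨(og_mem Z hK 1).2, ?_⟩)
    rw [show Z.ogn 1 (-1) = (MT.rel K).x ((MT.S).neg 28) (-1) * ((MT.rel K).x ((MT.S).neg 30) (-1) * 1)
      from rfl]
    exact mul_mem (x_mem_Sg _ (T := fun r => (MT.S).neg r ∈ fd.O.cls 1) (by decide +kernel) _)
      (mul_mem (x_mem_Sg _ (T := fun r => (MT.S).neg r ∈ fd.O.cls 1) (by decide +kernel) _) (one_mem _))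
  show nj Z 1 ∈ _
  rw [nj, if_neg (by decide)]
  exact mul_mem (mul_mem (mul_mem (mul_mem h1 h2) h1) h2) h1

theorem Lev1_rank : ∀ a ∈ (DT).X 1, a ≠ 1 → ∃ x ∈ (DT).X 1, ∃ x' ∈ (DT).X 1,
    ∃ t : ↥(chevF4.group F), t ∈ (DT).H1 ∧ t ∈ (DT).Lev 1 ∧
      (DT).nJ 1 * a * ((DT).nJ 1)⁻¹ = x * (DT).nJ 1 * x' * t := fun _ ha ha1 =>
  (DT).Lev_rank (MT.shapeR K) ((gens Z hK).longest long_ok) (gens Z hK).split 1 (nJ1_mem Z hK)
    (Lev1_clean Z hK) ha ha1

/-- the action on a piece of the grading -/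
def pieceM {n : ℕ} (p : Fin n → chevF4.Idx) (hp : Function.Injective p) (v : ℤ × ℤ)
    (hv : ∀ i, gr (p i) = v) (hcls : ∀ a, gr a = v → a ∈ Set.range p) :
    ↥((DT).Lev 1) →* Matrix (Fin n) (Fin n) F where
  toFun g := (mx (g : ↥(chevF4.group F))).submatrix p p
  map_one' := by
    rw [OneMemClass.coe_one, mx_one, Matrix.submatrix_one p hp]
  map_mul' g h := by
    ext i j
    rw [Subgroup.coe_mul, mx_mul, Matrix.submatrix_apply, Matrix.mul_apply, Matrix.mul_apply]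
    refine (Fintype.sum_of_injective p hp _ _ (fun c hc => ?_) (fun k => rfl)).symm
    rw [Lev1_graded Z hK g.2 (fun e => hc (hcls c (by rw [← e]; exact hv i))), zero_mul]

theorem U1_two {g : ↥(chevF4.group F)} (hg : g ∈ (DT).U1) : ∃ a : ℕ, g ^ 2 ^ a = 1 := by
  have hc : Nat.card ↥((DT).U1) = (2 ^ (2 * m + 1)) ^ 12 := by
    rw [(DT).card_U1 (MT.shapeR K) ((gens Z hK).longest long_ok)]
    simp only [W0, List.map_cons, List.map_nil, List.prod_cons, List.prod_nil, card_X0 Z hK, card_X1 Z hK]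
    ring
  refine ⟨(2 * m + 1) * 12, ?_⟩
  have := pow_card_eq_one' (x := (⟨g, hg⟩ : ↥((DT).U1)))
  rw [hc, ← pow_mul] at this
  exact congrArg Subtype.val this

/-- the subgroup has determinant one on every piece -/
theorem det_piece {n : ℕ} (p : Fin n → chevF4.Idx) (hp : Function.Injective p) (v : ℤ × ℤ)
    (hv : ∀ i, gr (p i) = v) (hcls : ∀ a, gr a = v → a ∈ Set.range p)
    {g : ↥(chevF4.group F)} (hg : g ∈ (DT).Lev 1) :
    ((mx g).submatrix p p).det = 1 := by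
  haveI := charTwo hK
  let d : ↥((DT).Lev 1) →* Fˣ :=
    ((Matrix.detMonoidHom (n := Fin n) (R := F)).comp (pieceM Z hK p hp v hv hcls)).toHomUnits
  have hU : ∀ {x : ↥(chevF4.group F)} (hx : x ∈ (DT).X 1),
      d ⟨x, (DT).X_le_Lev 1 hx⟩ = 1 := by
    intro x hx
    obtain ⟨a, ha⟩ := U1_two Z hK ((DT).X_le_U1 1 hx)
    have h1 : d ⟨x, (DT).X_le_Lev 1 hx⟩ ^ 2 ^ a = 1 := by
      rw [← map_pow, show (⟨x, (DT).X_le_Lev 1 hx⟩ : ↥((DT).Lev 1)) ^ 2 ^ a = 1 from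
        Subtype.ext (by simpa using ha), map_one]
    refine Units.ext ?_
    have h2 := congrArg Units.val h1
    rw [Units.val_pow_eq_pow_val, Units.val_one] at h2
    have h3 : iterateFrobenius F 2 a ((d ⟨x, (DT).X_le_Lev 1 hx⟩ : Fˣ) : F) = iterateFrobenius F 2 a 1 := by
      rw [iterateFrobenius_def, iterateFrobenius_def, h2, one_pow]
    exact iterateFrobenius_inj F 2 a h3
  have hker : (DT).Lev 1 ≤ d.ker.map ((DT).Lev 1).subtype := by
    refine sup_le (fun x hx => ⟨⟨x, (DT).X_le_Lev 1 hx⟩, hU hx, rfl⟩) fun x hx => ?_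
    have hxL : x ∈ (DT).Lev 1 := le_sup_right (a := (DT).X 1) hx
    refine ⟨⟨x, hxL⟩, ?_, rfl⟩
    have hy := (DT).inv_nJ_conj_Vk hx.1 hx.2
    have e : (⟨x, hxL⟩ : ↥((DT).Lev 1)) = ⟨_, nJ1_mem Z hK⟩ * ⟨_, (DT).X_le_Lev 1 hy⟩ *
        (⟨_, nJ1_mem Z hK⟩ : ↥((DT).Lev 1))⁻¹ := Subtype.ext (by
          show x = (DT).nJ 1 * (((DT).nJ 1)⁻¹ * x * (DT).nJ 1) * ((DT).nJ 1)⁻¹
          group)
    show d _ = 1
    rw [e, map_mul, map_mul, map_inv, hU hy, mul_one, mul_inv_cancel]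
  obtain ⟨g', hg', e⟩ := hker hg
  have := congrArg Units.val (show d g' = 1 from hg')
  rw [Subgroup.coe_subtype] at e
  rw [← e]
  exact this

theorem tor1_mem (z : Fˣ) : tor MT K (cvec m 1 z) ∈ (DT).LevH 1 := by
  obtain ⟨-, -, -, -, -, hper, -⟩ := pow_facts hK
  obtain ⟨z, rfl⟩ : ∃ w, z = w * w := ⟨z ^ (2 ^ m * 2 ^ m), Units.ext (by
    rw [← pow_add, Units.val_pow_eq_pow_val, ← two_mul, ← mul_assoc, hper])⟩
  refine Subgroup.mem_inf.2 ⟨?_, Subgroup.mem_inf.2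
    ⟨torus_mem Z hK _ (sig_cvec Z hK _ _), Z.tor_mem_H _⟩⟩
  obtain ⟨-, -, -, -, cw⟩ := chi_cvec1 Z z
  set c := cvec m 1 z with hc
  set h := tor MT K c with hh
  set n := (DT).nJ 1 with hn
  have hmem : h * n * h⁻¹ * n⁻¹ ∈ (DT).Lev 1 :=
    mul_mem ((DT).Lev_conj_H (Subgroup.mem_inf.2 ⟨torus_mem Z hK _ (sig_cvec Z hK 1 z), Z.tor_mem_H c⟩)
      _ (nJ1_mem Z hK)) (inv_mem (nJ1_mem Z hK))
  have hhH : h ∈ (MT.rel K).H := Z.tor_mem_H c
  have hco : InCoset (MT.rel K) n (fd.O.wd 1) := nj_coset Z hK 1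
  have hH : h * (n * h⁻¹ * n⁻¹) ∈ (MT.rel K).H :=
    mul_mem hhH (mono_conj_H _ hco.mem_mono (inv_mem hhH))
  have e : tor MT K (cvec m 1 (z * z)) = h * (n * h⁻¹ * n⁻¹) := by
    refine Z.H_ext (Z.tor_mem_H _) hH fun s t => ?_
    obtain ⟨k, -, hk⟩ := (hco.inv _).conj_x s
    rw [inv_inv] at hk
    set s' := (MT.S).actw (fd.O.wd 1).reverse s
    have hhi : ∀ a, h⁻¹ * (MT.rel K).x s' a * h = (MT.rel K).x s' ((chi MT c s : F) * a) := by
      intro a
      have h1 := Z.tor_conj c s' ((chi MT c s : F) * a)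
      rw [cw s, ← mul_assoc, ← Units.val_mul, inv_mul_cancel, Units.val_one, one_mul] at h1
      rw [← h1, ← hh]; group
    symm
    calc h * (n * h⁻¹ * n⁻¹) * (MT.rel K).x s t * (h * (n * h⁻¹ * n⁻¹))⁻¹
        = h * (n * (h⁻¹ * (n⁻¹ * (MT.rel K).x s t * n) * h) * n⁻¹) * h⁻¹ := by group
      _ = h * (n * (n⁻¹ * (MT.rel K).x s ((chi MT c s : F) * t) * n) * n⁻¹) * h⁻¹ := by
        rw [hk, hhi, hk, mul_left_comm (k : F)]
      _ = h * (MT.rel K).x s ((chi MT c s : F) * t) * h⁻¹ := by group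
      _ = _ := by
        rw [Z.tor_conj, Z.tor_conj, ← mul_assoc, ← Units.val_mul]
        congr 3
        rw [show cvec m 1 (z * z) = c * c by
          funext j
          match j with
          | 0 => show (1 : Fˣ) ^ 2 ^ m = 1 ^ 2 ^ m * 1 ^ 2 ^ m; simp
          | 1 => exact mul_pow z z _
          | 2 => rfl
          | 3 => exact (one_mul _).symm]
        rw [chi, chi, ← Finset.prod_mul_distrib]
        exact (Finset.prod_congr rfl fun i _ => (mul_zpow _ _ _).symm)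
  rw [e, show h * (n * h⁻¹ * n⁻¹) = h * n * h⁻¹ * n⁻¹ by group]
  exact hmem

theorem exists_cvec {t : ↥(chevF4.group F)} (ht : t ∈ (DT).H1) :
    ∃ y z : Fˣ, t = tor MT K (cvec m y z) := by
  rw [(gens Z hK).H1_eq torOk (pre_eq Z) inv_ok (m := 2) (by decide) (per Z hK)] at ht
  obtain ⟨c, hc, rfl⟩ := ht
  exact ⟨c 3, c 2, by rw [Z.torHom_apply, ← fixed_eq_cvec Z ((Z.mem_fixedPar).1 hc)]⟩

theorem five_pow {w : Fˣ} (h : w ^ (5 : ℕ) = 1) : w = 1 := by
  have := Z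
  have h1 : orderOf w ∣ Fintype.card F - 1 := by
    classical
    rw [← Fintype.card_units]; exact orderOf_dvd_card
  rcases (Nat.dvd_prime (by norm_num : Nat.Prime 5)).1 (orderOf_dvd_of_pow_eq_one h) with e | e
  · exact orderOf_eq_one_iff.1 e
  rw [e, hK] at h1
  obtain ⟨c, hc⟩ := h1
  have h4 : (2 : ℕ) ^ (2 * m + 1) % 5 = 2 ∨ (2 : ℕ) ^ (2 * m + 1) % 5 = 3 := by
    clear h e hc hK Z this
    induction m with
    | zero => simp
    | succ m ih =>
      rw [show 2 * (m + 1) + 1 = 2 * m + 1 + 2 by ring, pow_add, Nat.mul_mod]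
      rcases ih with h | h <;> rw [h] <;> decide
  have : 1 ≤ (2 : ℕ) ^ (2 * m + 1) := Nat.one_le_two_pow
  omega

/-- the torus of the subgroup -/
theorem LevH1_param {t : ↥(chevF4.group F)} (ht : t ∈ (DT).LevH 1) :
    ∃ z : Fˣ, t = tor MT K (cvec m 1 z) := by
  obtain ⟨y, z, rfl⟩ := exists_cvec Z hK ht.2
  refine ⟨z, ?_⟩
  suffices hy : y = 1 by rw [hy]
  have hd := det_piece Z hK p5 p5_inj (0, 1) p5_gr p5_cls ht.1
  rw [mx_tor, Matrix.submatrix_diagonal _ p5 p5_inj, Matrix.det_diagonal] at hd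
  have hd' : (∏ i : Fin 5, ∏ j, cvec m y z j ^ chevF4.pairing ((MT.S).simple j).val
      (([24, 26, 29, 31, 32] : List ℕ).getD i.val 0) : Fˣ) = 1 := by
    refine Units.ext ?_
    rw [Units.coe_prod, Units.val_one]
    exact hd
  rw [Finset.prod_comm] at hd'
  have hpz : ∀ (a : Fˣ) (f : Fin 5 → ℤ), ∏ i, a ^ f i = a ^ ∑ i, f i := fun a f => by
    simp only [Fin.prod_univ_five, Fin.sum_univ_five, zpow_add]
  simp only [hpz, p5_sum] at hd'
  change ∏ j : Fin 4, _ = _ at hd'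
  rw [Fin.prod_univ_four] at hd'
  change (y ^ 2 ^ m) ^ (-5 : ℤ) * (z ^ 2 ^ m) ^ (0 : ℤ) * z ^ (0 : ℤ) * y ^ (5 : ℤ) = 1 at hd'
  rw [zpow_zero, zpow_zero, mul_one, mul_one, ← zpow_natCast, ← zpow_mul, ← zpow_add] at hd'
  push_cast at hd'
  set e : ℤ := 2 ^ m with he
  have hw : (y ^ (1 - e)) ^ (5 : ℕ) = 1 := by
    rw [← zpow_natCast, ← zpow_mul]
    convert hd' using 2
    push_cast; ring
  have hw1 := five_pow Z hK hw
  have hM : y ^ (2 * e ^ 2 - 1) = 1 := zpow_M hK y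
  calc y = y ^ ((1 - e) * (2 * (e + 1)) + (2 * e ^ 2 - 1)) := by
        rw [show (1 - e) * (2 * (e + 1)) + (2 * e ^ 2 - 1) = 1 by ring, zpow_one]
    _ = 1 := by rw [zpow_add, zpow_mul, hw1, hM, one_zpow, one_mul]

/-- the parametrisation of the torus -/
noncomputable def tor1 : Fˣ →* ↥((DT).LevH 1) :=
  MonoidHom.mk' (fun z => ⟨tor MT K (cvec m 1 z), tor1_mem Z hK z⟩) fun a b => Subtype.ext (by
    show tor MT K _ = tor MT K _ * tor MT K _
    rw [← Z.tor_mul]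
    congr 1
    funext j
    match j with
    | 0 => show (1 : Fˣ) ^ 2 ^ m = 1 ^ 2 ^ m * 1 ^ 2 ^ m; simp
    | 1 => exact mul_pow a b _
    | 2 => rfl
    | 3 => exact (one_mul _).symm)

theorem tor1_bij : Function.Bijective (tor1 Z hK) := by
  refine ⟨(injective_iff_map_eq_one _).2 fun z hz => ?_, fun t => ?_⟩
  · exact (cvec_inj Z hK (a := 1) (congrArg Subtype.val hz)).2
  · obtain ⟨z, e⟩ := LevH1_param Z hK t.2
    exact ⟨z, Subtype.ext e.symm⟩

theorem card_LevH1 : Nat.card ↥((DT).LevH 1) = 2 ^ (2 * m + 1) - 1 := by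
  rw [← Nat.card_congr (Equiv.ofBijective _ (tor1_bij Z hK)), Nat.card_units,
    Nat.card_eq_fintype_card, hK]

theorem card_Lev1 : Nat.card ↥((DT).Lev 1) =
    (2 ^ (2 * m + 1)) ^ 2 * ((2 ^ (2 * m + 1)) ^ 2 + 1) * (2 ^ (2 * m + 1) - 1) := by
  obtain ⟨z, hz, hz1⟩ := (gens Z hK).proper distinct_ok orth_ok |>.nontriv 1
  rw [(DT).card_Lev (MT.shapeR K) ⟨z, hz, hz1⟩ (nJ1_mem Z hK)
    ((DT).nJ_sq_mem 1 ((gens Z hK).split.invol 1)).2 (Lev1_rank Z hK), card_X1 Z hK, card_LevH1 Z hK]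

/-- the image of `Lev 1` in `GL_4` -/
noncomputable def toGL : ↥((DT).Lev 1) →* GL (Fin 4) F :=
  (pieceM Z hK p4 p4_inj (1, 0) p4_gr p4_cls).toHomUnits

/-- the kernel on the piece lies in the Borel subgroup -/
theorem ker_toGL {g : ↥((DT).Lev 1)} (hg : toGL Z hK g = 1) :
    ∃ x ∈ (DT).X 1, ∃ t ∈ (DT).LevH 1, (g : ↥(chevF4.group F)) = x * t := by
  have hn := nJ1_mem Z hK
  rcases (DT).Lev_cells hn ((DT).nJ_sq_mem 1 ((gens Z hK).split.invol 1)).2 (Lev1_rank Z hK) g.2 with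
    h | ⟨x, hx, x', hx', t, ht, e⟩
  · exact h
  exfalso
  set n : ↥((DT).Lev 1) := ⟨_, hn⟩ with hndef
  set X : ↥((DT).Lev 1) := ⟨x, (DT).X_le_Lev 1 hx⟩
  set X' : ↥((DT).Lev 1) := ⟨x', (DT).X_le_Lev 1 hx'⟩
  set T : ↥((DT).Lev 1) := ⟨t, ht.1⟩
  have eg : g = X * n * X' * T := Subtype.ext e
  have hne : toGL Z hK n = toGL Z hK (X⁻¹ * T⁻¹ * X'⁻¹) := by
    rw [show n = X⁻¹ * g * T⁻¹ * X'⁻¹ by rw [eg]; group, map_mul, map_mul, map_mul, hg, mul_one,
      ← map_mul, ← map_mul]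
  obtain ⟨i, j, hij, r, hr, hr', hle⟩ := p4_moved
  have h1 := congrArg (fun u : GL (Fin 4) F => (u : Matrix (Fin 4) (Fin 4) F) i j) hne
  change mx ((DT).nJ 1) (p4 i) (p4 j) = mx (x⁻¹ * t⁻¹ * x'⁻¹) (p4 i) (p4 j) at h1
  have hB : x⁻¹ * t⁻¹ * x'⁻¹ ∈ (MT.rel K).B :=
    mul_mem (mul_mem ((MT.rel K).U_le_B (inv_mem ((DT).Uk_le_U 1 hx.2)))
      ((MT.rel K).H_le_B (inv_mem ht.2.2))) ((MT.rel K).U_le_B (inv_mem ((DT).Uk_le_U 1 hx'.2)))
  have h2 : mx (x⁻¹ * t⁻¹ * x'⁻¹) (p4 i) (p4 j) = 0 := by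
    refine ((MT.shapeR K).tri_of_B hB).1 (p4 i) (p4 j) (fun h => hij (p4_inj h)) ?_
    show keyOf chevF4 (p4 i) ≤ keyOf chevF4 (p4 j)
    simp only [keyOf, p4]
    omega
  rw [h2] at h1
  -- the monomial element has a nonzero entry there
  obtain ⟨h, hh, eh⟩ := nj_coset Z hK 1
  change (DT).nJ 1 = _ at eh
  have ei : p4 i = (MT.shapeR K).e ((MT.S).actw (fd.O.wd 1) r) := congrArg Sum.inr (Fin.ext hr'.symm)
  have ej : p4 j = (MT.shapeR K).e r := congrArg Sum.inr (Fin.ext hr.symm)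
  set n₀ := (MT.rel K).nw (fd.O.wd 1)
  have hcol : ∀ a, a ≠ p4 i → mx n₀ a (p4 j) = 0 := fun a ha => by
    rw [ej]; exact (MT.shapeR K).mono_word _ r a (by rw [← ei]; exact ha)
  have hdiag : ∀ a b : chevF4.Idx, a ≠ b → mx h a b = 0 := (MT.shapeR K).diag_of_H hh
  have hhi : mx h (p4 i) (p4 i) ≠ 0 := ((MT.shapeR K).tri_of_B ((MT.rel K).H_le_B hh)).2 _
  rw [eh, mx_mul, Matrix.mul_apply, Finset.sum_eq_single (p4 i)] at h1
  · have h3 : mx n₀ (p4 i) (p4 j) = 0 := (mul_eq_zero.1 h1).resolve_left hhi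
    have h4 : (mx n₀⁻¹ * mx n₀) (p4 j) (p4 j) = 1 := by
      rw [← mx_mul, inv_mul_cancel, mx_one, Matrix.one_apply_eq]
    rw [Matrix.mul_apply, Finset.sum_eq_zero] at h4
    · exact zero_ne_one h4
    · intro a _
      by_cases ha : a = p4 i
      · rw [ha, h3, mul_zero]
      · rw [hcol a ha, mul_zero]
  · intro a _ ha
    rw [hdiag _ _ (Ne.symm ha), zero_mul]
  · simp

theorem toGL_inj_odd {ℓ : ℕ} [Fact ℓ.Prime] (hℓ : ℓ ≠ 2) (P : Subgroup ↥((DT).Lev 1))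
    (hP : IsPGroup ℓ P) : Function.Injective ((toGL Z hK).comp P.subtype) := by
  rw [injective_iff_map_eq_one]
  rintro ⟨g, hgP⟩ hg
  obtain ⟨x, hx, t, ht, e⟩ := ker_toGL Z hK (g := g) hg
  -- the torus part
  obtain ⟨z, rfl⟩ := LevH1_param Z hK ht
  have hx1 : mx x (p4 0) (p4 0) = 1 := by
    have := (MT.shapeR K).uni_of_U ((DT).Uk_le_U 1 hx.2) (p4 0) (p4 0) le_rfl
    rw [if_pos rfl] at this
    exact this
  have h00 : mx (g : ↥(chevF4.group F)) (p4 0) (p4 0) = 1 := by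
    have := congrArg (fun u : GL (Fin 4) F => (u : Matrix (Fin 4) (Fin 4) F) 0 0) hg
    simpa [toGL, pieceM] using this
  rw [e, mx_mul, Matrix.mul_apply, Finset.sum_eq_single (p4 0)] at h00
  rotate_left
  · intro a _ ha
    rw [show mx (tor MT K (cvec m 1 z)) a (p4 0) = 0 from
      (MT.shapeR K).diag_of_H (Z.tor_mem_H _) a (p4 0) ha, mul_zero]
  · simp
  rw [hx1, one_mul, mx_tor, Matrix.diagonal_apply_eq] at h00
  have hz : ∏ j, cvec m 1 z j ^ chevF4.pairing ((MT.S).simple j).val 33 = (1 : Fˣ) := Units.ext h00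
  simp only [p4_pair] at hz
  change ∏ j : Fin 4, _ = _ at hz
  rw [Fin.prod_univ_four] at hz
  change ((1 : Fˣ) ^ 2 ^ m) ^ (2 : ℤ) * (z ^ 2 ^ m) ^ (-1 : ℤ) * z ^ (0 : ℤ) * (1 : Fˣ) ^ (0 : ℤ) = 1 at hz
  simp only [one_pow, one_zpow, one_mul, zpow_zero, mul_one, zpow_neg, zpow_one, inv_eq_one] at hz
  obtain ⟨-, -, -, -, -, hper, -⟩ := pow_facts hK
  have hz1 : z = 1 := by
    have h1 : z ^ (2 * 2 ^ m * 2 ^ m) = z := Units.ext (by rw [Units.val_pow_eq_pow_val, hper])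
    rw [← h1, show 2 * 2 ^ m * 2 ^ m = 2 ^ m * (2 * 2 ^ m) by ring, pow_mul, hz, one_pow]
  have ht1 : tor MT K (cvec m 1 (1 : Fˣ)) = 1 := congrArg Subtype.val (map_one (tor1 Z hK))
  rw [hz1, ht1, mul_one] at e
  -- the unipotent part
  obtain ⟨a, ha⟩ := U1_two Z hK ((DT).X_le_U1 1 hx)
  obtain ⟨k, hk⟩ := hP ⟨g, hgP⟩
  have hk' : x ^ ℓ ^ k = 1 := by
    rw [← e]
    exact congrArg (fun u : ↥P => ((u : ↥((DT).Lev 1)) : ↥(chevF4.group F))) hk
  have hco : Nat.Coprime (2 ^ a) (ℓ ^ k) :=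
    Nat.Coprime.pow a k ((Nat.coprime_primes Nat.prime_two (Fact.out)).2 (Ne.symm hℓ))
  have : x = 1 := by
    rw [← orderOf_eq_one_iff]
    exact Nat.eq_one_of_dvd_coprimes hco (orderOf_dvd_of_pow_eq_one ha) (orderOf_dvd_of_pow_eq_one hk')
  exact Subtype.ext (Subtype.ext (e.trans this))

/-- the condition at the odd primes -/
theorem local_odd {ℓ : ℕ} [hℓp : Fact ℓ.Prime] (hℓ : ℓ ≠ 2) {Δ : Type*} [Group Δ] [Finite Δ]
    (τ : Δ →* ↥((DT).Lev 1)) (hτ : Function.Surjective τ) (hc : τ.ker ≤ Subgroup.center Δ) :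
    ∃ S : Subgroup ↥((DT).Lev 1), ¬ ℓ ∣ S.index ∧ τ.ker ⊓ ⁅S.comap τ, S.comap τ⁆ = ⊥ := by
  classical
  by_cases hd : ℓ ∣ Fintype.card F ^ 2 + 1
  · let P : Sylow ℓ ↥((DT).Lev 1) := default
    let f : ↥(P : Subgroup ↥((DT).Lev 1)) →* GL (Fin 4) F :=
      (toGL Z hK).comp (P : Subgroup ↥((DT).Lev 1)).subtype
    haveI hcy : IsCyclic ↥f.range := gl_four_isCyclic hℓ hd _ (P.isPGroup'.of_surjective
      f.rangeRestrict f.rangeRestrict_surjective)
    haveI : IsCyclic ↥(P : Subgroup ↥((DT).Lev 1)) :=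
      isCyclic_of_injective f.rangeRestrict (MonoidHom.rangeRestrict_injective_iff.2
        (toGL_inj_odd Z hK hℓ _ P.isPGroup'))
    exact ⟨P, P.not_dvd_index, inf_commutator_eq_bot_of_comm τ _ fun x hx y hy =>
      comm_of_cyclic τ hc _ hτ hx hy⟩
  · let S : Subgroup ↥((DT).Lev 1) := ((DT).LevH 1).subgroupOf ((DT).Lev 1)
    let e : ↥S ≃* ↥((DT).LevH 1) := Subgroup.subgroupOfEquivOfLe inf_le_left
    haveI : IsCyclic ↥((DT).LevH 1) := isCyclic_of_surjective (tor1 Z hK) (tor1_bij Z hK).2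
    haveI : IsCyclic ↥S := isCyclic_of_surjective e.symm.toMonoidHom e.symm.surjective
    refine ⟨S, ?_, inf_commutator_eq_bot_of_comm τ _ fun x hx y hy => comm_of_cyclic τ hc _ hτ hx hy⟩
    have hidx := S.card_mul_index
    rw [Nat.card_congr e.toEquiv, card_LevH1 Z hK, card_Lev1 Z hK,
      mul_comm ((2 ^ (2 * m + 1)) ^ 2 * _) (2 ^ (2 * m + 1) - 1)] at hidx
    have h1 : 0 < 2 ^ (2 * m + 1) - 1 := by
      have : 2 ≤ 2 ^ (2 * m + 1) := le_self_pow (by norm_num) (by omega)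
      omega
    rw [Nat.eq_of_mul_eq_mul_left h1 hidx, hℓp.out.dvd_mul, ← hK]
    rintro (h | h)
    · rw [hK] at h
      exact hℓ ((Nat.prime_dvd_prime_iff_eq hℓp.out Nat.prime_two).1
        (hℓp.out.dvd_of_dvd_pow (hℓp.out.dvd_of_dvd_pow h)))
    · exact hd h

end Cfsg.Agent.Twisted.TypeF4
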