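import Cfsg.Agent.KnownSimple.Multiplier.F4.LocalTables
import Cfsg.Agent.KnownSimple.Multiplier.Series
import Cfsg.Agent.KnownSimple.Multiplier.Pairing

/-!
The condition at the prime two for the Schur multiplier of `²F₄(q)` (helper53).
-/

set_option autoImplicit false
set_option linter.unusedSectionVars false
set_option maxRecDepth 4000

namespace Cfsg.Agent.Twisted.TypeF4

open ChevGroup ChevIsogeny Cfsg.Lie
open Cfsg.Agent.KnownSimple
open scoped commutatorElement

universe u w

variable {F : Type w} [Field F] [Fintype F] {m : ℕ} {K : Rels chevF4 F}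
  (Z : Frame (T := MT) K PP (2 ^ m) fd) (hK : Fintype.card F = 2 ^ (2 * m + 1))

set_option quotPrecheck false in
local notation "G₁" => genG MT K (f4Words F (2 ^ m))

include Z hK

theorem commute_Sg {L L' : List (Fin MT.tab.n)}
    (h : ∀ r ∈ L, ∀ s ∈ L', PP.commuteB chevF4 r.val s.val = true) {x y : ↥(chevF4.group F)}
    (hx : x ∈ Sg (MT.rel K) (· ∈ L)) (hy : y ∈ Sg (MT.rel K) (· ∈ L')) : Commute x y := by
  have := hK
  induction hx using Subgroup.closure_induction with
  | mem a ha =>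
    obtain ⟨r, t, hr, rfl⟩ := ha
    induction hy using Subgroup.closure_induction with
    | mem b hb => obtain ⟨s, u, hs, rfl⟩ := hb; exact Z.commute_x (h r hr s hs) _ _
    | one => exact Commute.one_right _
    | mul a b _ _ ha hb => exact ha.mul_right hb
    | inv a _ ha => exact ha.inv_right
  | one => exact Commute.one_left _
  | mul a b _ _ ha hb => exact ha.mul_left hb
  | inv a _ ha => exact ha.inv_left

theorem Pf_mem {i : Fin 12} (hi : exact i = true) (t : F) : Pf (m := m) K i t ∈ G₁ := by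
  obtain ⟨hL, hlf, hinv⟩ := exact_ok i hi
  obtain ⟨a, b, hf, hab, hρa, hρb, hr, ha, hb, hlf'⟩ := fac_shape i
  obtain ⟨-, -, -, -, -, hper, -⟩ := pow_facts hK
  have hfix : Z.σ (Pf (m := m) K i t) = Pf (m := m) K i t := by
    refine Z.prodX_fixed hL _ fun r hr' => ?_
    rw [(lam_ef Z r).2, one_mul]
    rw [hf] at hr'
    simp only [List.mem_cons, List.not_mem_nil, or_false] at hr'
    have h1 : IsoHyp.lam PP (2 ^ m) (rep i).val = 2 ^ m := by simp [IsoHyp.lam, hlf']
    have h2 : IsoHyp.lam PP (2 ^ m) (fd.O.rho (rep i)).val = 2 * 2 ^ m := by simp [IsoHyp.lam, hlf]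
    have e : (t ^ 2 ^ m) ^ (2 * 2 ^ m) = t := by rw [← pow_mul, mul_comm]; exact hper t
    rcases hr with er | er <;> rw [er] at h1 h2 ⊢
    · rw [hρa] at h2
      rcases hr' with rfl | rfl
      · rw [hρa, h1]; simp [two, hab.symm]
      · rw [hρb, h2]; simp [two, hab.symm, e]
    · rw [hρb] at h2
      rcases hr' with rfl | rfl
      · rw [hρa, h2]; simp [two, hab, e]
      · rw [hρb, h1]; simp [two, hab]
  exact (Subgroup.mem_inf.1 ((gens Z hK).data.mem_U1_of_fixed (MT.shapeR K)
    ((gens Z hK).longest long_ok) (lev_le_U Z (show i.val + 1 ≤ 12 by omega) (fac_mem_lev Z i _)) hfix)).1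

/-- the exact element of a factor in the group -/
noncomputable def xF (i : Fin 12) (t : F) : ↥G₁ :=
  if h : exact i = true then ⟨Pf (m := m) K i t, Pf_mem Z hK h t⟩ else 1

theorem xF_coe {i : Fin 12} (hi : exact i = true) (t : F) :
    (xF Z hK i t : ↥(chevF4.group F)) = Pf (m := m) K i t := by
  rw [xF, dif_pos hi]

theorem xF_Sub {i : Fin 12} (hi : exact i = true) (t : F) :
    xF Z hK i t ∈ (Sub (fac i) : Subgroup ↥G₁) := by
  show (xF Z hK i t : ↥(chevF4.group F)) ∈ Sg (MT.rel K) (· ∈ fac i)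
  rw [xF_coe Z hK hi]
  exact Z.Sg_mem_prodX (Q := (· ∈ fac i)) (fun r hr => hr) _

theorem xF_add {i : Fin 12} (hi : exact i = true) (t u : F) :
    xF Z hK i (t + u) = xF Z hK i t * xF Z hK i u := by
  obtain ⟨hL, -, -⟩ := exact_ok i hi
  obtain ⟨-, hadd, -⟩ := pow_facts hK
  refine Subtype.ext ?_
  rw [Subgroup.coe_mul, xF_coe Z hK hi, xF_coe Z hK hi, xF_coe Z hK hi, Pf, Pf, Pf,
    Z.prodX_mul fun r hr s hs => Z.commList_commute hL hr hs]
  refine Z.prodX_congr fun r _ => ?_
  simp only [Pi.add_apply, two]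
  split_ifs
  · rfl
  · exact hadd t u

theorem xF_conj {i : Fin 12} (hi : exact i = true) (s : Fˣ × Fˣ) (t : F) :
    hT Z hK s * xF Z hK i t * (hT Z hK s)⁻¹ = xF Z hK i ((wgt m i s : F) * t) := by
  obtain ⟨hL, -, -⟩ := exact_ok i hi
  have hz : ∀ t, Lead K m i (xF Z hK i t : ↥(chevF4.group F)) t := fun t => by
    rw [xF_coe Z hK hi]
    show _ ∈ _
    rw [inv_mul_cancel]
    exact one_mem _
  set g := hT Z hK s * xF Z hK i t * (hT Z hK s)⁻¹
  set g' := xF Z hK i ((wgt m i s : F) * t)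
  have h1 : (g' : ↥(chevF4.group F))⁻¹ * g ∈ Sg (MT.rel K) (· ∈ lev i.val) := by
    have := mul_mem (inv_mem (hz ((wgt m i s : F) * t))) (hT_lead Z hK i s (hz t))
    simpa [g, g', mul_assoc] using this
  have h2 : (g' : ↥(chevF4.group F))⁻¹ * g ∈ Sg (MT.rel K) (· ∈ fac i) :=
    mul_mem (inv_mem (xF_Sub Z hK hi _)) (hT_Sub Z hK s (xF_Sub Z hK hi t))
  obtain ⟨v, hv⟩ := Z.exists_prodX_closed (L := fac i)
    (exact_list i hi).1 (exact_list i hi).2.1 h2
  have h3 := Z.level_lead (lev_ok i) (v := v) (by rw [fac_top i, ← hv]; exact h1)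
  rw [fac_top i] at h3
  rw [Z.prodX_congr (w := fun _ => (0 : F)) h3] at hv
  have h0 : prodX MT K (fac i) (fun _ => (0 : F)) = 1 := List.prod_eq_one fun y hy => by
    obtain ⟨r, -, rfl⟩ := List.mem_map.1 hy
    exact (MT.rel K).x_zero r
  rw [h0, inv_mul_eq_one] at hv
  exact (Subtype.ext hv).symm

variable {Γ : Type u} [Group Γ] [Finite Γ]

/-- lifts of the centre commute with lifts of the orbit containing it -/
theorem base_pair (hm : 1 ≤ m) (σ : Γ →* ↥G₁) (hσ : Function.Surjective σ)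
    (hc : σ.ker ≤ Subgroup.center Γ) (a b : Γ)
    (ha : σ a ∈ (Sub ([44, 47] : List (Fin MT.tab.n)) : Subgroup ↥G₁))
    (hb : σ b ∈ (Sub ([29, 41, 44, 47] : List (Fin MT.tab.n)) : Subgroup ↥G₁)) : ⁅a, b⁆ = 1 := by
  -- elements all whose lifts commute with a lift
  let C : Γ → Subgroup ↥G₁ := fun b => (Subgroup.centralizer ({b} : Set Γ)).map σ
  have hC : ∀ a b : Γ, σ a ∈ C b → ⁅a, b⁆ = 1 := by
    rintro a b ⟨a', ha', e⟩
    have hz : a'⁻¹ * a ∈ Subgroup.center Γ := hc (by
      rw [MonoidHom.mem_ker, map_mul, map_inv, e, inv_mul_cancel])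
    rw [commutatorElement_eq_one_iff_mul_comm]
    have h1 := Subgroup.mem_centralizer_iff.1 ha' b rfl
    have h2 := Subgroup.mem_center_iff.1 hz b
    calc a * b = a' * ((a'⁻¹ * a) * b) := by group
      _ = a' * (b * (a'⁻¹ * a)) := by rw [h2]
      _ = (a' * b) * (a'⁻¹ * a) := by rw [mul_assoc]
      _ = b * a' * (a'⁻¹ * a) := by rw [h1]
      _ = b * a := by group
  have hcomm : ∀ b : Γ, ∀ x y : ↥G₁, Commute (σ b) x → Commute (σ b) y → ⁅x, y⁆ ∈ C b := by
    intro b x y hx hy
    obtain ⟨a, ha⟩ := hσ ⁅x, y⁆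
    have := Pairing.comm_of_commutator hσ hc ha hx hy
    exact ⟨a, Subgroup.mem_centralizer_iff.2 fun y hy => by
      rw [Set.mem_singleton_iff.1 hy]; exact (commutatorElement_eq_one_iff_mul_comm.1 this).symm, ha⟩
  have hS : ∀ g : ↥G₁, g ∈ (Sub ([29, 41, 44, 47] : List (Fin MT.tab.n)) : Subgroup ↥G₁) →
      ∀ x : ↥G₁, x ∈ (Sub ([28, 30, 36, 42, 39, 45, 40, 46, 44, 47] : List (Fin MT.tab.n)) : Subgroup ↥G₁) →
        Commute g x := fun g hg x hx =>
    Subtype.ext (commute_Sg Z hK base_comm hg hx)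
  have h0 : exact 0 = true := rfl
  have h1 : exact 1 = true := rfl
  have h2 : exact 2 = true := rfl
  have h4 : exact 4 = true := rfl
  have h10 : exact 10 = true := rfl
  have hin : ∀ (i : Fin 12), exact i = true → ∀ t,
      xF Z hK i t ∈ (Sub ([28, 30, 36, 42, 39, 45, 40, 46, 44, 47] : List (Fin MT.tab.n)) : Subgroup ↥G₁) :=
    fun i hi t => Sub_mono (exact_list i hi).2.2 (xF_Sub Z hK hi t)
  obtain ⟨-, -, -, -, -, -, hneg⟩ := pow_facts hK
  have hkey : ⁅xF Z hK 10 1, xF Z hK 4 1⁆ = xF Z hK 2 1 * xF Z hK 1 1 * xF Z hK 0 1 := by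
    have key := wordMat_eq_of_check ChevCore.goodF4 ChevCore.chkLinkF4 base_word F
      (by exact_mod_cast (pow_facts hK).1)
    simp only [List.map_cons, List.map_nil, Int.cast_one] at key
    refine Subtype.ext (Model.mat_inj ?_)
    have e1 : ∀ (r : Fin MT.tab.n) (a : F), Model.mat ((MT.rel K).x r a) = chevF4.x F r.val a :=
      fun r a => MT.mat_xG K r a
    have hP : ∀ (i : Fin 12) (r s : Fin MT.tab.n), exact i = true → fac i = [r, s] →
        Model.mat (xF Z hK i 1 : ↥(chevF4.group F)) = chevF4.x F r.val 1 * chevF4.x F s.val 1 := by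
      intro i r s hi hf
      rw [xF_coe Z hK hi, Pf, hf]
      simp [prodX, two, Model.mat_mul, e1]
    have hI : ∀ (i : Fin 12) (r s : Fin MT.tab.n), exact i = true → fac i = [r, s] →
        Model.mat ((xF Z hK i 1 : ↥(chevF4.group F)))⁻¹ = chevF4.x F r.val 1 * chevF4.x F s.val 1 := by
      intro i r s hi hf
      have h00 : xF Z hK i (0 : F) = 1 := by
        have h := xF_add Z hK hi (0 : F) 0
        rw [add_zero] at h
        exact left_eq_mul.1 h
      have : (xF Z hK i 1)⁻¹ = xF Z hK i 1 := inv_eq_of_mul_eq_one_right (by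
        rw [← xF_add Z hK hi, ← h00]
        congr 1
        have := hneg (1 : F)
        linear_combination -this)
      rw [← Subgroup.coe_inv, this]
      exact hP i r s hi hf
    rw [commutatorElement_def]
    simp only [Subgroup.coe_mul, Subgroup.coe_inv, Model.mat_mul, hP 10 28 30 h10 rfl,
      hP 4 36 42 h4 rfl, hI 10 28 30 h10 rfl, hI 4 36 42 h4 rfl, hP 2 39 45 h2 rfl, hP 1 40 46 h1 rfl,
      hP 0 44 47 h0 rfl]
    simp only [ChevalleyDatum.wordMat, List.map_cons, List.map_nil, List.prod_cons, List.prod_nil,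
      mul_one] at key
    simp only [mul_assoc] at key ⊢
    exact key
  -- the generators of the two middle factors
  have hmid : ∀ (b : Γ) (i : Fin 12), exact i = true → (0 : Fin 12) < i → special 0 i = false →
      σ b ∈ (Sub ([29, 41, 44, 47] : List (Fin MT.tab.n)) : Subgroup ↥G₁) → xF Z hK i 1 ∈ C b := by
    intro b i hi hlt hsp hb
    obtain ⟨s, hs0, hs1⟩ := wgt_separate hK hm hlt hsp
    have hne : (wgt m i s : F) - 1 ≠ 0 := sub_ne_zero.2 fun e => hs1 (Units.ext e)
    set u : F := 1 / ((wgt m i s : F) - 1)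
    have e : xF Z hK i 1 = ⁅hT Z hK s, xF Z hK i u⁆ := by
      rw [commutatorElement_def, xF_conj Z hK hi, eq_mul_inv_iff_mul_eq, ← xF_add Z hK hi]
      congr 1
      simp only [u]
      field_simp
      ring
    rw [e]
    refine hcomm b _ _ ?_ (hS _ hb _ (hin i hi u))
    -- the torus element fixes the orbit
    refine Subtype.ext ?_
    have hx : ∀ g ∈ Sg (MT.rel K) (· ∈ ([29, 41, 44, 47] : List (Fin MT.tab.n))),
        Commute (hT Z hK s : ↥(chevF4.group F)) g := by
      intro g hg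
      induction hg using Subgroup.closure_induction with
      | mem y hy =>
        obtain ⟨r, t, hr, rfl⟩ := hy
        set c := cvec m ((Equiv.ofBijective _ (uv_bij Z hK)).symm s).1
          ((Equiv.ofBijective _ (uv_bij Z hK)).symm s).2 with hcd
        have hrep : ∀ (j : Fin 12), exact j = true → wgt m j s = 1 → chi MT c (rep j) = 1 := by
          intro j hj hwj
          have h := xF_conj Z hK hj s 1
          rw [hwj, Units.val_one, one_mul, mul_inv_eq_iff_eq_mul] at h
          have h' := congrArg Subtype.val h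
          rw [Subgroup.coe_mul, Subgroup.coe_mul, xF_coe Z hK hj] at h'
          obtain ⟨a, b, hf, hab, -, -, hr, -⟩ := fac_shape j
          have hsub : (fac j).Sublist MT.posList := fac_sublist j
          refine Z.chi_eq_one_of_commute hsub c _ h' (rep j) ?_ (by simp [two])
          rw [hf]; rcases hr with e | e <;> simp [e]
        have h5 : wgt m 5 s = 1 := by
          have e5 : wgt m 0 s = wgt m 5 s ^ (1 + 2 * (2 : ℤ) ^ m) := by
            show _ = (_ * _) ^ _
            rw [mul_zpow, ← zpow_mul, ← zpow_mul]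
            show s.1 ^ _ * s.2 ^ _ = _
            have hA : expA (2 ^ m) 5 * (1 + 2 * (2 : ℤ) ^ m) = expA (2 ^ m) 0 + (2 * ((2 : ℤ) ^ m) ^ 2 - 1) * 2 := by
              simp [expA, tbl]; ring
            have hB : expB (2 ^ m) 5 * (1 + 2 * (2 : ℤ) ^ m) = expB (2 ^ m) 0 + (2 * ((2 : ℤ) ^ m) ^ 2 - 1) * 2 := by
              simp [expB, tbl]; ring
            rw [hA, hB, zpow_add, zpow_add, zpow_mul s.1 (2 * _ - 1), zpow_mul s.2 (2 * _ - 1),
              zpow_M hK, zpow_M hK, one_zpow, mul_one, mul_one]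
          rw [hs0] at e5
          have e6 := congrArg (· ^ (2 * (2 : ℤ) ^ m - 1)) e5.symm
          simp only [← zpow_mul, one_zpow] at e6
          rwa [show (1 + 2 * (2 : ℤ) ^ m) * (2 * 2 ^ m - 1) = (2 * ((2 : ℤ) ^ m) ^ 2 - 1) * 2 + 1 by ring,
            zpow_add, zpow_mul, zpow_M hK, one_zpow, one_mul, zpow_one] at e6
        have c0 : chi MT c (rep 0) = 1 := hrep 0 h0 hs0
        have hc : Z.sig pre c = c := sig_cvec Z hK _ _
        have c5 : chi MT c (rep 5) = 1 := by
          have hl := hT_lead Z hK 5 s (g := eF Z hK 5 1) (eF_lead Z hK 5 1)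
          rw [h5, Units.val_one, one_mul] at hl
          have hl' : Lead K m 5 (tor MT K c * Pf (m := m) K 5 1 * (tor MT K c)⁻¹) 1 := by
            have hh := H_conj_Sg (MT.rel K) (Z.tor_mem_H c) (inv_mem (eF_lead Z hK 5 1))
            have := mul_mem hl hh
            show _ ∈ Sg (MT.rel K) (· ∈ lev (5 : Fin 12).val)
            convert this using 1
            show _ = _ * (tor MT K c * _ * (tor MT K c)⁻¹)
            rw [show ((hT Z hK s * eF Z hK 5 1 * (hT Z hK s)⁻¹ : ↥G₁) : ↥(chevF4.group F)) =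
              tor MT K c * (eF Z hK 5 1 : ↥(chevF4.group F)) * (tor MT K c)⁻¹ from rfl]
            group
          rw [Pf, Z.tor_prodX_conj] at hl'
          have hd := mul_mem hl' (fac_add Z 5 (two (rep 5) (1 : F) (1 ^ 2 ^ m))
            ((fun r => (chi MT c r : F) * two (rep 5) 1 (1 ^ 2 ^ m) r) - two (rep 5) (1 : F) (1 ^ 2 ^ m)))
          rw [add_sub_cancel, show Pf (m := m) K 5 1 = prodX MT K (fac 5) (two (rep 5) (1 : F) (1 ^ 2 ^ m))
            from rfl] at hd
          simp only [mul_assoc, mul_inv_cancel_left, inv_mul_cancel_left] at hd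
          have h6 := Z.level_lead (lev_ok 5) (v := _) (by rw [fac_top]; exact hd)
          have h7 := h6 (rep 5) (by rw [fac_top]; decide)
          simp only [Pi.sub_apply, two, if_pos, mul_one, sub_eq_zero] at h7
          exact Units.ext h7
        have hchi : chi MT c r = 1 := by
          rcases five_tbl r hr with e | e | e | e <;> rw [e]
          · exact c5
          · rw [chi_rho Z hK hc, c5, one_pow]
          · exact c0
          · rw [chi_rho Z hK hc, c0, one_pow]
        show tor MT K c * _ = _ * tor MT K c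
        have h := Z.tor_conj c r t
        rw [hchi, Units.val_one, one_mul, mul_inv_eq_iff_eq_mul] at h
        exact h
      | one => exact Commute.one_right _
      | mul a b _ _ ha hb => exact ha.mul_right hb
      | inv a _ ha => exact ha.inv_right
    exact (hx _ hb).symm
  -- the centre element with parameter one
  have h01 : ∀ b : Γ, σ b ∈ (Sub ([29, 41, 44, 47] : List (Fin MT.tab.n)) : Subgroup ↥G₁) →
      xF Z hK 0 1 ∈ C b := by
    intro b hb
    have hg := hcomm b _ _ (hS _ hb _ (hin 10 h10 1)) (hS _ hb _ (hin 4 h4 1))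
    rw [hkey] at hg
    have := mul_mem (inv_mem (mul_mem (hmid b 2 h2 (by decide) rfl hb) (hmid b 1 h1 (by decide) rfl hb))) hg
    rwa [inv_mul_cancel_left] at this
  -- every element of the centre
  obtain ⟨t, ht⟩ := exists_lead Z hK 0 (g := σ a) (Sub_mono zero_sub ha)
  have hat : σ a = xF Z hK 0 t := by
    refine Subtype.ext ?_
    rw [xF_coe Z hK h0]
    have h : (Pf (m := m) K 0 t)⁻¹ * (σ a : ↥(chevF4.group F)) = 1 := by
      have h' : (⟨_, mul_mem (inv_mem (Pf_mem Z hK h0 t)) (σ a).2⟩ : ↥G₁) ∈ (FlF 0 : Subgroup ↥G₁) := ht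
      rw [FlF_zero, Subgroup.mem_bot] at h'
      exact congrArg Subtype.val h'
    exact (inv_mul_eq_one.1 h).symm
  rcases eq_or_ne t 0 with rfl | ht0
  · have : σ a = 1 := by
      rw [hat]
      have h := xF_add Z hK h0 (0 : F) 0
      rw [add_zero] at h
      exact left_eq_mul.1 h
    exact commutatorElement_eq_one_iff_mul_comm.2
      (Subgroup.mem_center_iff.1 (hc (MonoidHom.mem_ker.2 this)) b).symm
  obtain ⟨s, hs⟩ := wgt_surj hK 0 (Units.mk0 t ht0)
  obtain ⟨h, hh⟩ := hσ (hT Z hK s)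
  have key := hC (h⁻¹ * a * h) (h⁻¹ * b * h) (by
    have hb' : σ (h⁻¹ * b * h) ∈ (Sub ([29, 41, 44, 47] : List (Fin MT.tab.n)) : Subgroup ↥G₁) := by
      rw [map_mul, map_mul, map_inv, hh]
      have := H_conj_Sg (MT.rel K) (inv_mem (Z.tor_mem_H _ : ((hT Z hK s : ↥G₁) : ↥(chevF4.group F)) ∈ _)) hb
      rw [inv_inv] at this
      exact this
    have e : σ (h⁻¹ * a * h) = xF Z hK 0 1 := by
      rw [map_mul, map_mul, map_inv, hh, hat,
        show t = (wgt m 0 s : F) * 1 by rw [hs, mul_one]; rfl, ← xF_conj Z hK h0 s 1]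
      group
    rw [e]
    exact h01 _ hb')
  calc ⁅a, b⁆ = h * ⁅h⁻¹ * a * h, h⁻¹ * b * h⁆ * h⁻¹ := by simp only [commutatorElement_def]; group
    _ = 1 := by rw [key]; group

theorem special_pair (hm : 1 ≤ m) (σ : Γ →* ↥G₁) (hσ : Function.Surjective σ)
    (hc : σ.ker ≤ Subgroup.center Γ) {i j : Fin 12} (h : special i j = true) (a b : Γ)
    (ha : σ a ∈ (Sub (sup i) : Subgroup ↥G₁)) (hb : σ b ∈ (Sub (sup j) : Subgroup ↥G₁)) :
    ⁅a, b⁆ = 1 := by
  obtain ⟨h1, h2⟩ := spW_ok i j h
  obtain ⟨g, hg⟩ := hσ (⟨(gens Z hK).data.nW (spW j), (gens Z hK).data.nW_mem _⟩ : ↥G₁)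
  have hco := (gens Z hK).data.nW_coset (spW j)
  have hconj : ∀ (L L' : List (Fin MT.tab.n)),
      (∀ r ∈ L, (MT.S).actw (((spW j).map fd.O.wd).flatten).reverse r ∈ L') →
      ∀ x : Γ, σ x ∈ (Sub L : Subgroup ↥G₁) → σ (g⁻¹ * x * g) ∈ (Sub L' : Subgroup ↥G₁) := by
    intro L L' hL x hx
    rw [map_mul, map_mul, map_inv, hg]
    exact hco.inv_conj_Sg (MT.rel K) (T := (· ∈ L)) (T' := (· ∈ L')) hL hx
  have key := base_pair Z hK hm σ hσ hc (g⁻¹ * a * g) (g⁻¹ * b * g) (hconj _ _ h1 a ha) (hconj _ _ h2 b hb)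
  calc ⁅a, b⁆ = g * ⁅g⁻¹ * a * g, g⁻¹ * b * g⁆ * g⁻¹ := by simp only [commutatorElement_def]; group
    _ = 1 := by rw [key]; group

/-- the series of the unipotent subgroup -/
noncomputable def series (hm : 1 ≤ m) :
    Series.Data (↥G₁) F (Fˣ × Fˣ) (UF : Subgroup ↥G₁) 12 where
  h := hT Z hK
  h_comm := hT_comm Z hK
  h_norm s _ hu := hT_Sub Z hK s hu
  Fl i := FlF (min i 12)
  Fl_zero := FlF_zero
  Fl_mono i := FlF_le (by omega) (by omega)
  Fl_le i := FlF_le (min_le_right _ _) le_rfl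
  top := le_rfl
  V _ := ⊤
  e := eF Z hK
  χ i s := (wgt m i s : F)
  mem i v _ := by
    rw [Nat.min_eq_left (by omega : i.val + 1 ≤ 12)]
    exact eF_mem Z hK i v
  dec i g hg := by
    rw [Nat.min_eq_left (by omega : i.val + 1 ≤ 12)] at hg
    rw [Nat.min_eq_left (by omega : i.val ≤ 12)]
    obtain ⟨t, ht⟩ := FlF_dec Z hK i hg
    exact ⟨t, AddSubgroup.mem_top t, ht⟩
  add i v _ w _ := by
    rw [Nat.min_eq_left (by omega : i.val ≤ 12)]
    exact eF_add Z hK i v w
  inj i v _ h := by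
    rw [Nat.min_eq_left (by omega : i.val ≤ 12)] at h
    exact eF_inj Z hK i h
  central i g hg u hu := by
    rw [Nat.min_eq_left (by omega : i.val + 1 ≤ 12)] at hg
    rw [Nat.min_eq_left (by omega : i.val ≤ 12)]
    exact central' Z i (UF_mem.1 hu) hg
  χ_mem _ _ v _ := AddSubgroup.mem_top _
  scale i s v _ := by
    rw [Nat.min_eq_left (by omega : i.val ≤ 12)]
    have h := mul_mem (inv_mem (eF_lead Z hK i ((wgt m i s : F) * v)))
      (hT_lead Z hK i s (eF_lead Z hK i v))
    show _ ∈ Sg (MT.rel K) (· ∈ lev i.val)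
    simpa [mul_assoc] using h
  moves i := by
    obtain ⟨z, hz⟩ := exists_ne_one Z hK hm
    obtain ⟨s, hs⟩ := wgt_surj hK i z
    exact ⟨s, fun e => hz (by rw [← hs]; exact Units.ext e)⟩

/-- The condition at the prime two. -/
theorem local_two (hm : 1 ≤ m) (σ : Γ →* ↥G₁) (hσ : Function.Surjective σ)
    (hc : σ.ker ≤ Subgroup.center Γ) : σ.ker ⊓ ⁅UF.comap σ, UF.comap σ⁆ = ⊥ := by
  classical
  refine Series.ker_inf_commutator (series Z hK hm) σ hσ hc fun i j hij => ?_
  rcases eq_or_lt_of_le hij with rfl | hlt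
  · refine Or.inl fun A _ B hB _ v w => ?_
    let f : F →+ (⊤ : AddSubgroup F) := AddMonoidHom.mk' (fun x => ⟨x, AddSubgroup.mem_top x⟩) fun _ _ => rfl
    let B' : F →+ F →+ A := ((B.comp f).flip.comp f).flip
    have h5 : 5 ≤ Nat.card F := by
      rw [Nat.card_eq_fintype_card, hK]
      have := Nat.pow_le_pow_right (show 0 < 2 by norm_num) (show 3 ≤ 2 * m + 1 by omega)
      omega
    refine Pairing.zero_of_scalars h5 B' (fun c hc0 x y => ?_) v.1 w.1
    obtain ⟨s, hs⟩ := wgt_surj hK i (Units.mk0 c hc0)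
    refine Eq.trans ?_ (hB s (f x) (f y))
    have hsF : (wgt m i s : F) = c := congrArg Units.val hs
    show B (f (c * x)) (f (c * y)) = _
    congr 2 <;> exact Subtype.ext (by show c * _ = _; rw [← hsF]; rfl)
  · cases hsp : special i j
    · refine Or.inl fun A _ B hB _ v w => ?_
      obtain ⟨s, h1, h2⟩ := wgt_separate hK hm hlt hsp
      have hne : (wgt m j s : F) ≠ 1 := fun e => h2 (Units.ext e)
      refine Pairing.zero_of_right B hne (fun _ _ => AddSubgroup.mem_top _)
        (fun _ _ => AddSubgroup.mem_top _) (fun v w => ?_) v w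
      refine Eq.trans ?_ (hB s v w)
      congr 2
      exact Subtype.ext (by show _ = ((wgt m i s : Fˣ) : F) * _; rw [h1, Units.val_one, one_mul])
    · exact Or.inr fun a b v _ w _ ha hb => special_pair Z hK hm σ hσ hc hsp a b
        (ha ▸ eF_sup Z hK i v) (hb ▸ eF_sup Z hK j w)

end Cfsg.Agent.Twisted.TypeF4
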