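import Cfsg.Agent.KnownSimple.Multiplier.F4.Torus

/-!
Tables for the condition at the prime two of `²F₄(q)` (helper53).
-/

set_option autoImplicit false
set_option maxRecDepth 4000

namespace Cfsg.Agent.Twisted.TypeF4

open ChevGroup ChevIsogeny Cfsg.Lie

/-- the factors used with exact representatives -/
def exact (i : Fin 12) : Bool := decide (i.val ∈ [0, 1, 2, 4, 10])

theorem exact_ok : ∀ i : Fin 12, exact i = true → commListB PP fd (fac i) = true ∧
    IsoData.lf PP (fd.O.rho (rep i)).val = 2 ∧ fd.O.rho (fd.O.rho (rep i)) = rep i := by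
  decide +kernel

theorem base_comm :
    ∀ r ∈ ([29, 41, 44, 47] : List (Fin MT.tab.n)),
      ∀ s ∈ ([28, 30, 36, 42, 39, 45, 40, 46, 44, 47] : List (Fin MT.tab.n)),
        PP.commuteB chevF4 r.val s.val = true := by decide +kernel

/-- the commutator of the two chosen elements, modulo `2` -/
theorem base_word :
    wordEqB chevF4 (ChevCore.fast chevF4 ChevCore.packedF4) 2
      [(28, 1), (30, 1), (36, 1), (42, 1), (28, 1), (30, 1), (36, 1), (42, 1)]
      [(39, 1), (45, 1), (40, 1), (46, 1), (44, 1), (47, 1)] = true := by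
  decide +kernel

/-- the word carrying the base pair to a special pair -/
def spW (j : Fin 12) : List (Fin 2) :=
  if j.val = 5 then [] else supW j ++ [0, 1, 0]

theorem spW_ok : ∀ i j : Fin 12, special i j = true →
    (∀ r ∈ sup i, (MT.S).actw (((spW j).map fd.O.wd).flatten).reverse r ∈ ([44, 47] : List (Fin MT.tab.n))) ∧
    ∀ r ∈ sup j, (MT.S).actw (((spW j).map fd.O.wd).flatten).reverse r ∈
      ([29, 41, 44, 47] : List (Fin MT.tab.n)) := by decide +kernel

theorem five_tbl : ∀ r ∈ ([29, 41, 44, 47] : List (Fin MT.tab.n)),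
    r = rep 5 ∨ r = fd.O.rho (rep 5) ∨ r = rep 0 ∨ r = fd.O.rho (rep 0) := by decide +kernel

theorem exact_list : ∀ i : Fin 12, exact i = true →
    closedB MT PP (fac i) = true ∧ (fac i).Nodup ∧
      ∀ r ∈ fac i, r ∈ ([28, 30, 36, 42, 39, 45, 40, 46, 44, 47] : List (Fin MT.tab.n)) := by
  decide +kernel

theorem fac_sublist : ∀ i : Fin 12, (fac i).Sublist MT.posList := by decide +kernel

theorem zero_sub : ∀ r ∈ ([44, 47] : List (Fin MT.tab.n)), r ∈ lev (0 + 1) := by decide +kernel

end Cfsg.Agent.Twisted.TypeF4
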