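import Cfsg.Agent.KnownSimple.Multiplier.F4.Local
import Cfsg.Agent.KnownSimple.Multiplier.F4.Levi1
import Cfsg.Agent.KnownSimple.Multiplier.LiftLocal
import Cfsg.Agent.KnownSimple.Multiplier.SL2
import Cfsg.Agent.Twisted.Groups.D4
import Cfsg.Agent.Twisted.Transfer

/-!
Stem extensions of `²F₄(q)`, `q ≥ 8`, are trivial (helper53).
-/

set_option autoImplicit false
set_option linter.unusedSectionVars false

namespace Cfsg.Agent.Twisted.TypeF4

open ChevGroup ChevIsogeny Cfsg.Lie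
open Cfsg.Agent.KnownSimple
open Cfsg.Agent.ChevCore (slU slL pn ph)

universe w

/-- the Coxeter matrix of the dihedral group of order sixteen -/
def M8 : CoxeterMatrix (Fin 2) where
  M := !![1, 8; 8, 1]
  isSymm := by apply Matrix.IsSymm.ext; intro i j; fin_cases i <;> fin_cases j <;> rfl
  diagonal := by decide
  off_diagonal := by intro i j; fin_cases i <;> fin_cases j <;> simp

/-- The orbit reflections as permutations of the roots. -/
def pw (k : Fin 2) : Equiv.Perm (Fin MT.tab.n) where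
  toFun r := (MT.S).actw (fd.O.wd k) r
  invFun r := (MT.S).actw (fd.O.wd k).reverse r
  left_inv r := (MT.S).actw_reverse' _ r
  right_inv r := (MT.S).actw_reverse _ r

theorem pw_liftable : CoxeterMatrix.IsLiftable M8 pw := by
  have h : ∀ i j : Fin 2, ∀ r, ((pw i * pw j) ^ M8.M i j) r = r := by decide +kernel
  exact fun i j => Equiv.ext (h i j)

/-- The Weyl group acting on the roots. -/
def psi8 : M8.Group →* Equiv.Perm (Fin MT.tab.n) := M8.toCoxeterSystem.lift ⟨pw, pw_liftable⟩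

theorem psi8_simple (k : Fin 2) : psi8 (M8.simple k) = pw k := by
  have := M8.toCoxeterSystem.lift_apply_simple pw_liftable k
  rwa [CoxeterMatrix.toCoxeterSystem_simple] at this

theorem psi8_inj : Function.Injective psi8 := by
  rw [injective_iff_map_eq_one]
  intro g hg
  set cs := M8.toCoxeterSystem
  have hmem : g ∈ Subgroup.closure {cs.simple 0, cs.simple 1} := by
    have : Set.range cs.simple = {cs.simple 0, cs.simple 1} := by
      ext x
      simp only [Set.mem_range, Fin.exists_fin_two, Set.mem_insert_iff, Set.mem_singleton_iff]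
      tauto
    rw [← this, CoxeterSystem.subgroup_closure_range_simple]
    exact Subgroup.mem_top g
  obtain ⟨i, hi, h⟩ := eq_dihedral (cs.simple_mul_simple_self 0) (cs.simple_mul_simple_self 1)
    (m := 8) (by omega) (cs.simple_mul_simple_pow 0 1) hmem
  have e0 : psi8 (cs.simple 0) = pw 0 := psi8_simple 0
  have e1 : psi8 (cs.simple 1) = pw 1 := psi8_simple 1
  have key : ∀ i : Fin 8, (((pw 0 * pw 1) ^ i.val = 1) → i.val = 0) ∧ (pw 0 * pw 1) ^ i.val * pw 0 ≠ 1 := by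
    have : ∀ i : Fin 8, ((∀ r, ((pw 0 * pw 1) ^ i.val) r = r) → i.val = 0) ∧
        ∃ r, ((pw 0 * pw 1) ^ i.val * pw 0) r ≠ r := by decide +kernel
    exact fun i => ⟨fun h => (this i).1 fun r => by rw [h]; rfl, fun h => by
      obtain ⟨r, hr⟩ := (this i).2; exact hr (by rw [h]; rfl)⟩
  rcases h with rfl | rfl
  · rw [map_pow, map_mul, e0, e1] at hg
    have e : i = 0 := (key ⟨i, hi⟩).1 hg
    rw [e, pow_zero]
  · rw [map_mul, map_pow, map_mul, e0, e1] at hg
    exact absurd hg (key ⟨i, hi⟩).2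

theorem braid_ok : ∀ i j : Fin 2, i ≠ j → M8 i j ≠ 0 → ∃ (P : List (Fin 2)) (s t : Fin 2),
    (P ++ [s] ++ P.reverse ++ [t] = (List.replicate (M8 i j) [i, j]).flatten ∨
      P ++ [s] ++ P.reverse ++ [t] = (List.replicate (M8 i j) [j, i]).flatten) ∧
    (∀ r ∈ fd.O.cls s, (MT.S).actw (P.map fd.O.wd).flatten r ∈ fd.O.cls t) ∧
    ∀ r, (MT.S).actw (P.map fd.O.wd).flatten ((MT.S).actw (fd.O.wd s)
      ((MT.S).actw (P.map fd.O.wd).flatten.reverse ((MT.S).actw (fd.O.wd t) r))) = r := by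
  intro i j hij _
  refine ⟨[i, j, i, j, i, j, i], j, j, Or.inl ?_, ?_, ?_⟩
  all_goals fin_cases i <;> fin_cases j <;> first | exact absurd rfl hij | decide +kernel

variable {F : Type w} [Field F] [Fintype F] {m : ℕ} {K : Rels chevF4 F}
  (Z : Frame (T := MT) K PP (2 ^ m) fd) (hK : Fintype.card F = 2 ^ (2 * m + 1))

set_option quotPrecheck false in
local notation "G₁" => genG MT K (f4Words F (2 ^ m))

set_option quotPrecheck false in
local notation "DT" => Gens.data (gens Z hK)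

include Z hK

theorem H_comm {a b : ↥(chevF4.group F)} (ha : a ∈ (MT.rel K).H) (hb : b ∈ (MT.rel K).H) :
    a * b = b * a := by
  obtain ⟨c, rfl⟩ := Z.exists_tor torOk ha
  obtain ⟨d, rfl⟩ := Z.exists_tor torOk hb
  rw [← Z.tor_mul, ← Z.tor_mul, mul_comm]

theorem tor0_mem (a : Fˣ) : tor MT K (cvec m a 1) ∈ (DT).Lev 0 := by
  rw [Lev0_eq Z hK, ← levi0_torus Z hK]
  exact ⟨_, rfl⟩

theorem H1_gen : ∀ h ∈ (DT).H1, h ∈ ⨆ k, (DT).Lev k ⊓ (DT).H1 := by
  intro h hh
  obtain ⟨y, z, rfl⟩ := exists_cvec Z hK hh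
  rw [cvec_mul Z, Z.tor_mul]
  refine mul_mem
    (le_iSup (fun k => (DT).Lev k ⊓ (DT).H1) 0 (Subgroup.mem_inf.2 ⟨tor0_mem Z hK y,
      Subgroup.mem_inf.2 ⟨torus_mem Z hK _ (sig_cvec Z hK _ _), Z.tor_mem_H _⟩⟩))
    (le_iSup (fun k => (DT).Lev k ⊓ (DT).H1) 1 (tor1_mem Z hK z))

theorem hn_all : ∀ k, (DT).nJ k ∈ (DT).Lev k := by
  intro k
  match k with
  | 0 => rw [Lev0_eq Z hK]; exact (isLevi0 Z hK).nJ_mem_range
  | 1 => exact nJ1_mem Z hK

theorem rank_all : ∀ k, ∀ a ∈ (DT).X k, a ≠ 1 → ∃ x ∈ (DT).X k, ∃ x' ∈ (DT).X k,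
    ∃ t : ↥(chevF4.group F), t ∈ (DT).H1 ∧ t ∈ (DT).Lev k ∧
      (DT).nJ k * a * ((DT).nJ k)⁻¹ = x * (DT).nJ k * x' * t := by
  intro k a ha ha1
  match k with
  | 0 =>
    obtain ⟨x, hx, x', hx', t, ht, htL, e⟩ := (isLevi0 Z hK).rank ha ha1
    exact ⟨x, hx, x', hx', t, ht, by rw [Lev0_eq Z hK]; exact htL, e⟩
  | 1 => exact Lev1_rank Z hK a ha ha1

/-- the setup -/
noncomputable def setup : BNLift.Setup ↥G₁ (Fin 2) 2 :=
  (DT).liftSetup' (MT.shapeR K) 2 ((gens Z hK).longest long_ok) (gens Z hK).split Z.pres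
    (fun _ ha _ hb => H_comm Z hK ha hb) (fun _ hu => U1_two Z hK hu) (hn_all Z hK) (rank_all Z hK)
    (H1_gen Z hK) M8 psi8 psi8_inj (fun k r => by rw [psi8_simple]; rfl) braid_ok

theorem card_UF : Nat.card ↥(UF : Subgroup ↥G₁) = (2 ^ (2 * m + 1)) ^ 12 := by
  have h : Nat.card ↥((DT).U1) = (2 ^ (2 * m + 1)) ^ 12 := by
    rw [(DT).card_U1 (MT.shapeR K) ((gens Z hK).longest long_ok)]
    simp only [W0, List.map_cons, List.map_nil, List.prod_cons, List.prod_nil, card_X0 Z hK, card_X1 Z hK]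
    ring
  rw [← h]
  exact Nat.card_congr
    { toFun := fun g => ⟨(g.1 : ↥(chevF4.group F)), Subgroup.mem_inf.2 ⟨g.1.2, UF_mem.1 g.2⟩⟩
      invFun := fun g => ⟨⟨g.1, (Subgroup.mem_inf.1 g.2).1⟩, UF_mem.2 (Subgroup.mem_inf.1 g.2).2⟩
      left_inv := fun _ => rfl
      right_inv := fun _ => rfl }

theorem index_UF_odd : ¬ 2 ∣ (UF : Subgroup ↥G₁).index := by
  have h1 : Nat.card ↥G₁ = _ :=
    (Nat.card_congr (genEquiv MT K (f4Words F (2 ^ m))).toEquiv).trans (card_G Z hK)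
  have h2 := (UF : Subgroup ↥G₁).card_mul_index
  rw [card_UF Z hK, h1, mul_assoc, mul_assoc, mul_assoc] at h2
  rw [Nat.eq_of_mul_eq_mul_left (pow_pos (Nat.two_pow_pos _) _) h2]
  have he : 2 ∣ (2 : ℕ) ^ (2 * m + 1) := dvd_pow_self 2 (by omega)
  have hodd : ∀ n, n ≠ 0 → ¬ 2 ∣ ((2 : ℕ) ^ (2 * m + 1)) ^ n - 1 := fun n hn hd => by
    have h3 := Nat.dvd_sub (he.trans (dvd_pow_self _ hn)) hd
    rw [Nat.sub_sub_self (Nat.one_le_pow _ _ (Nat.two_pow_pos _))] at h3
    omega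
  have heven : ∀ n, n ≠ 0 → ¬ 2 ∣ ((2 : ℕ) ^ (2 * m + 1)) ^ n + 1 := fun n hn hd => by
    have h3 := (Nat.dvd_add_right (he.trans (dvd_pow_self _ hn))).1 hd
    omega
  simp only [Nat.prime_two.dvd_mul]
  rintro (h | h | h | h)
  · exact hodd 1 one_ne_zero (by rwa [pow_one])
  · exact heven 3 (by norm_num) h
  · exact hodd 4 (by norm_num) h
  · exact heven 6 (by norm_num) h

/-- Stem extensions are trivial. -/
theorem ker_eq_bot (hm : 1 ≤ m) {Γ : Type w} [Group Γ] [Finite Γ] (σ : Γ →* ↥G₁)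
    (hσ : Cfsg.IsStemExtension σ) : σ.ker = ⊥ := by
  classical
  haveI := Fact.mk Nat.prime_two
  haveI := charTwo hK
  obtain ⟨hσs, hσc, hσd⟩ := hσ
  have hcop : (Nat.card σ.ker).Coprime 2 := by
    refine (Nat.prime_two.coprime_iff_not_dvd.2 fun hd => ?_).symm
    obtain ⟨⟨z, hz⟩, ho⟩ := exists_prime_orderOf_dvd_card' 2 hd
    rw [Subgroup.orderOf_mk] at ho
    have hmem := Cfsg.Agent.Schur.pow_index_mem_commutator ((UF : Subgroup ↥G₁).comap σ) (hσc hz) (hσd hz)
    rw [Subgroup.map_subtype_commutator, Subgroup.index_comap_of_surjective _ hσs] at hmem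
    have h1 : z ^ (UF : Subgroup ↥G₁).index ∈ (⊥ : Subgroup Γ) :=
      local_two Z hK hm σ hσs hσc ▸ ⟨pow_mem hz _, hmem⟩
    have h2 := orderOf_dvd_of_pow_eq_one (Subgroup.mem_bot.1 h1)
    rw [ho] at h2
    exact index_UF_odd Z hK h2
  have hperf : commutator Γ = ⊤ := by
    have hG : commutator ↥G₁ = ⊤ := (DT).commutator_eq_top (gens Z hK).split (mem_derived Z hK hm)
    have h1 : (commutator Γ).map σ = ⊤ := by
      rw [_root_.commutator_def, Subgroup.map_commutator, Subgroup.map_top_of_surjective σ hσs,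
        ← _root_.commutator_def, hG]
    rw [eq_top_iff]
    intro y _
    obtain ⟨a, ha, e⟩ : σ y ∈ (commutator Γ).map σ := by rw [h1]; trivial
    have := mul_mem ha (hσd (show a⁻¹ * y ∈ σ.ker by
      rw [MonoidHom.mem_ker, map_mul, map_inv, e, inv_mul_cancel]))
    simpa using this
  refine BNLift.ker_eq_bot σ (setup Z hK) Nat.prime_two hσs hσc hperf hcop (fun k => ?_) (fun f hf hprod => ?_)
  · match k with
    | 0 =>
      have hψ := isLevi0 Z hK
      let φ : Matrix.SpecialLinearGroup (Fin 2) F →* ↥G₁ := (levi0 Z hK).codRestrict _ hψ.mem_G₁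
      refine BNLift.ker_inf_liftGen σ hσs hσc Nat.prime_two hcop φ
        (fun a b h => hψ.injective (MT.shapeR K) (congrArg Subtype.val h)) _ ?_ ?_
      · show φ.range = ((DT).Lev 0).subgroupOf G₁
        rw [Lev0_eq Z hK]
        ext g
        exact ⟨fun ⟨a, ha⟩ => ⟨a, congrArg Subtype.val ha⟩, fun ⟨a, ha⟩ => ⟨a, Subtype.ext ha⟩⟩
      · intro ℓ hℓ hℓp Δ _ _ τ hτ hτc
        haveI := Fact.mk hℓ
        exact ⟨_, (default : Sylow ℓ (Matrix.SpecialLinearGroup (Fin 2) F)).not_dvd_index,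
          sylow_condition hℓp default τ hτ hτc⟩
    | 1 =>
      refine BNLift.ker_inf_liftGen σ hσs hσc Nat.prime_two hcop (Subgroup.inclusion ((DT).Lev_le 1))
        (Subgroup.inclusion_injective _) _ ?_ ?_
      · show (Subgroup.inclusion ((DT).Lev_le 1)).range = ((DT).Lev 1).subgroupOf G₁
        ext g
        exact ⟨fun ⟨a, ha⟩ => ha ▸ a.2, fun hg => ⟨⟨_, hg⟩, rfl⟩⟩
      · intro ℓ hℓ hℓp Δ _ _ τ hτ hτc
        haveI := Fact.mk hℓ
        exact local_odd Z hK hℓp τ hτ hτc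
  · have hprod' : (f 0 : ↥(chevF4.group F)) * f 1 = 1 := by
      have e : ((List.finRange (Fintype.card (Fin 2))).map fun i =>
          f ((Fintype.equivFin (Fin 2)).symm i)).prod = f 0 * f 1 ∨
        ((List.finRange (Fintype.card (Fin 2))).map fun i =>
          f ((Fintype.equivFin (Fin 2)).symm i)).prod = f 1 * f 0 := by
        set e' := (Fintype.equivFin (Fin 2)).symm
        have h01 : e' ⟨0, by simp⟩ ≠ e' ⟨1, by simp⟩ := fun h => absurd (e'.injective h) (by simp)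
        have hl : (List.finRange (Fintype.card (Fin 2))) = [⟨0, by simp⟩, ⟨1, by simp⟩] := rfl
        rw [hl]
        simp only [List.map_cons, List.map_nil, List.prod_cons, List.prod_nil, mul_one]
        generalize e' ⟨0, by simp⟩ = a at h01
        generalize e' ⟨1, by simp⟩ = b at h01
        fin_cases a <;> fin_cases b <;> simp_all
      rcases e with e | e <;> rw [e] at hprod
      · exact congrArg Subtype.val hprod
      · exact (H_comm Z hK (a := (f 0 : ↥(chevF4.group F))) (hf 0).2 (hf 1).2).trans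
          (congrArg Subtype.val hprod)
    have hL0 : (f 0 : ↥(chevF4.group F)) ∈ (DT).Lev 0 := (hf 0).1
    rw [Lev0_eq Z hK] at hL0
    obtain ⟨g0, e0⟩ := hL0
    obtain ⟨a, ha, rfl⟩ := (isLevi0 Z hK).mem_H_iff (MT.shapeR K) (g := g0) (e0 ▸ (hf 0).2)
    have e0' : tor MT K (cvec m (Units.mk0 a ha) 1) = f 0 :=
      (levi0_torus Z hK (Units.mk0 a ha)).symm.trans e0
    obtain ⟨z, e1⟩ := LevH1_param Z hK (t := (f 1 : ↥(chevF4.group F)))
      (Subgroup.mem_inf.2 ⟨(hf 1).1, Subgroup.mem_inf.2 ⟨(f 1).2, (hf 1).2⟩⟩)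
    rw [← e0', e1, ← Z.tor_mul, ← cvec_mul Z] at hprod'
    obtain ⟨ea, ez⟩ := cvec_inj Z hK hprod'
    have t1 : tor MT K (cvec m (1 : Fˣ) (1 : Fˣ)) = 1 := congrArg Subtype.val (map_one (tor1 Z hK))
    rw [ea, t1] at e0'
    rw [ez, t1] at e1
    intro k
    match k with
    | 0 => exact Subtype.ext e0'.symm
    | 1 => exact Subtype.ext e1

end Cfsg.Agent.Twisted.TypeF4
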