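import Cfsg.Agent.KnownSimple.Multiplier.F4.Levels

/-!
Representatives of the factors of the unipotent subgroup of `²F₄(q)` inside the root groups of the orbits,
and the action of the torus on them (helper53).
-/

set_option autoImplicit false
set_option linter.unusedSectionVars false

namespace Cfsg.Agent.Twisted.TypeF4

open ChevGroup ChevIsogeny Cfsg.Lie

theorem sup_closed : ∀ i : Fin 12, closedB MT PP (sup i) = true ∧ (sup i).Sublist MT.posList ∧
    closedB MT PP (lev i.val) = true ∧ (lev i.val).Sublist MT.posList := by decide +kernel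

theorem sup0_kind : ∀ i : Fin 12, (cen i = i ∧ (sup0 i = [28, 30] ∨ sup0 i = [33, 24])) ∨
    sup0 i = [27, 25, 28, 30] := by decide +kernel

variable {F : Type*} [Field F] [Fintype F] {m : ℕ} {K : Rels chevF4 F}
  (Z : Frame (T := MT) K PP (2 ^ m) fd) (hK : Fintype.card F = 2 ^ (2 * m + 1))

set_option quotPrecheck false in
local notation "G₁" => genG MT K (f4Words F (2 ^ m))

include Z

/-- an element in the root groups of two lists lies in those of their intersection -/
theorem Sg_inter {L L' : List (Fin MT.tab.n)} (hL : closedB MT PP L = true)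
    (hLs : L.Sublist MT.posList) (hL' : closedB MT PP L' = true) (hLs' : L'.Sublist MT.posList)
    {g : ↥(chevF4.group F)} (h : g ∈ Sg (MT.rel K) (· ∈ L)) (h' : g ∈ Sg (MT.rel K) (· ∈ L'))
    {T : Fin MT.tab.n → Prop} (hT : ∀ r ∈ L, r ∈ L' → T r) : g ∈ Sg (MT.rel K) T := by
  classical
  have hnd := Z.posList_nodup
  obtain ⟨v, rfl⟩ := Z.exists_prodX_closed hL (hLs.nodup hnd) h
  obtain ⟨w, hw⟩ := Z.exists_prodX_closed hL' (hLs'.nodup hnd) h'
  rw [← prodX_pad hLs hnd v, ← prodX_pad hLs' hnd w] at hw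
  have h1 := Z.prodX_inj (List.Sublist.refl _) hw
  refine Subgroup.list_prod_mem _ fun y hy => ?_
  obtain ⟨r, hr, rfl⟩ := List.mem_map.1 hy
  by_cases hr' : r ∈ L'
  · exact x_mem_Sg _ (hT r hr hr') _
  · have h2 := h1 r (hLs.subset hr)
    rw [if_pos hr, if_neg hr'] at h2
    show (MT.rel K).x r (v r) ∈ _
    rw [h2, (MT.rel K).x_zero]
    exact one_mem _

include hK

/-- the elements of the representatives, as a homomorphism to the parameters -/
noncomputable def leadHom (i : Fin 12) : ↥(Sub (sup i) : Subgroup ↥G₁) →* Multiplicative F :=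
  MonoidHom.mk' (fun g => Multiplicative.ofAdd
    (exists_lead Z hK i (g := g.1) (Sub_mono (fun r hr => (sup_lev i r hr).1) g.2)).choose)
    fun g h => by
      rw [← ofAdd_add]
      refine congrArg _ (lead_unique Z i
        (exists_lead Z hK i (g := (g * h).1) (Sub_mono (fun r hr => (sup_lev i r hr).1) (g * h).2)).choose_spec ?_)
      exact lead_mul Z hK i
        (exists_lead Z hK i (g := g.1) (Sub_mono (fun r hr => (sup_lev i r hr).1) g.2)).choose_spec
        (exists_lead Z hK i (g := h.1) (Sub_mono (fun r hr => (sup_lev i r hr).1) h.2)).choose_spec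

theorem leadHom_spec (i : Fin 12) (g : ↥(Sub (sup i) : Subgroup ↥G₁)) :
    Lead K m i ((g : ↥G₁) : ↥(chevF4.group F)) (leadHom Z hK i g).toAdd :=
  (exists_lead Z hK i (g := g.1) (Sub_mono (fun r hr => (sup_lev i r hr).1) g.2)).choose_spec

theorem leadHom_ker (i : Fin 12) {g : ↥(Sub (sup i) : Subgroup ↥G₁)} (hg : g ∈ (leadHom Z hK i).ker) :
    ((g : ↥G₁) : ↥(chevF4.group F)) ∈ Sg (MT.rel K) (fun r => r ∈ sup i ∧ r ∈ lev i.val) := by
  have h := leadHom_spec Z hK i g
  rw [MonoidHom.mem_ker.1 hg, toAdd_one, lead_zero Z hK i] at h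
  obtain ⟨a, b, c, d⟩ := sup_closed i
  exact Sg_inter Z a b c d g.2 h fun r hr hr' => ⟨hr, hr'⟩

theorem card_cen_le (i : Fin 12) :
    Nat.card ↥(Sub (sup (cen i)) : Subgroup ↥G₁) ≤ Nat.card F := by
  refine Nat.card_le_card_of_injective (fun g => (leadHom Z hK (cen i) g).toAdd) ?_
  have hker : (leadHom Z hK (cen i)).ker = ⊥ := by
    rw [Subgroup.eq_bot_iff_forall]
    intro g hg
    have h := leadHom_ker Z hK (cen i) hg
    have e : Sg (MT.rel K) (fun r => r ∈ sup (cen i) ∧ r ∈ lev (cen i).val) = ⊥ :=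
      Subgroup.closure_eq_bot_iff.2 (by
        rintro y ⟨r, t, hr, -⟩
        rw [(cen_cen i).1] at hr
        exact absurd hr.2 ((cen_cen i).2.2 r hr.1))
    rw [e, Subgroup.mem_bot] at h
    exact Subtype.ext (Subtype.ext h)
  exact fun g h e => (MonoidHom.ker_eq_bot_iff _).1 hker (Multiplicative.toAdd.injective e)

theorem card_conj (i : Fin 12) :
    Nat.card ↥(Sub (sup0 i) : Subgroup ↥G₁) = Nat.card ↥(Sub (sup i) : Subgroup ↥G₁) := by
  have X := gens Z hK
  set n : ↥G₁ := ⟨(gens Z hK).data.nW (supW i), (gens Z hK).data.nW_mem _⟩ with hn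
  have hco := (gens Z hK).data.nW_coset (supW i)
  obtain ⟨h1, h2⟩ := sup_word i
  exact Nat.card_congr
    { toFun := fun g => ⟨n * g.1 * n⁻¹, hco.conj_Sg (MT.rel K) (T := (· ∈ sup0 i)) (T' := (· ∈ sup i)) h1 g.2⟩
      invFun := fun g => ⟨n⁻¹ * g.1 * n,
        hco.inv_conj_Sg (MT.rel K) (T := (· ∈ sup i)) (T' := (· ∈ sup0 i)) h2 g.2⟩
      left_inv := fun g => Subtype.ext (by show n⁻¹ * (n * g.1 * n⁻¹) * n = g.1; group)
      right_inv := fun g => Subtype.ext (by show n * (n⁻¹ * g.1 * n) * n⁻¹ = g.1; group) }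

theorem card_Sub_cls (k : Fin 2) :
    Nat.card ↥(Sub (fd.O.cls k) : Subgroup ↥G₁) = Nat.card ↥((gens Z hK).data.X k) :=
  Nat.card_congr
    { toFun := fun g => ⟨(g.1 : ↥(chevF4.group F)), Subgroup.mem_inf.2 ⟨g.1.2, g.2⟩⟩
      invFun := fun g => ⟨⟨g.1, (Subgroup.mem_inf.1 g.2).1⟩, (Subgroup.mem_inf.1 g.2).2⟩
      left_inv := fun _ => rfl
      right_inv := fun _ => rfl }

theorem card_sup (i : Fin 12) : Nat.card F * Nat.card ↥(leadHom Z hK i).ker ≤
    Nat.card ↥(Sub (sup i) : Subgroup ↥G₁) := by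
  have hF : Nat.card F = 2 ^ (2 * m + 1) := by rw [Nat.card_eq_fintype_card, hK]
  rcases sup0_kind i with ⟨hc, h0⟩ | h0
  · have hker : Nat.card ↥(leadHom Z hK i).ker = 1 := by
      rw [Nat.card_eq_one_iff_unique]
      refine ⟨⟨fun g h => ?_⟩, inferInstance⟩
      have key : ∀ x : ↥(leadHom Z hK i).ker, x = 1 := by
        intro x
        have h := leadHom_ker Z hK i x.2
        have e : Sg (MT.rel K) (fun r => r ∈ sup i ∧ r ∈ lev i.val) = ⊥ :=
          Subgroup.closure_eq_bot_iff.2 (by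
            rintro y ⟨r, t, hr, -⟩
            obtain ⟨e1, -, e2⟩ := cen_cen i
            rw [hc] at e1 e2
            rw [e1] at hr
            exact absurd hr.2 (e2 r hr.1))
        rw [e, Subgroup.mem_bot] at h
        exact Subtype.ext (Subtype.ext (Subtype.ext h))
      rw [key g, key h]
    rw [hker, mul_one, ← card_conj Z hK i]
    rcases h0 with e | e <;> rw [e]
    · refine Nat.card_le_card_of_injective
        (fun u : F => (⟨⟨clsW K m 0 u, (clsW_mem Z 0 u).1⟩, ?_⟩ :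
          ↥(Sub ([28, 30] : List (Fin MT.tab.n)) : Subgroup ↥G₁))) ?_
      · show clsW K m 0 u ∈ Sg (MT.rel K) (· ∈ ([28, 30] : List (Fin MT.tab.n)))
        rw [← (og1_eq Z hK u).1]
        exact Z.Sg_mem_prodX (Q := (· ∈ ([28, 30] : List (Fin MT.tab.n)))) (fun r hr => hr) _
      · intro u u' h
        obtain ⟨-, -, hc', -⟩ := form_inj Z hK (congrArg (fun g : ↥(Sub ([28, 30] : List (Fin MT.tab.n)) : Subgroup ↥G₁) => ((g : ↥G₁) : ↥(chevF4.group F))) h :)
        exact add_left_cancel hc'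
    · rw [show ([33, 24] : List (Fin MT.tab.n)) = fd.O.cls 0 from rfl, card_Sub_cls Z hK 0, card_X0 Z hK, hF]
  · rw [← card_conj Z hK i, h0, show ([27, 25, 28, 30] : List (Fin MT.tab.n)) = fd.O.cls 1 from rfl,
      card_Sub_cls Z hK 1, card_X1 Z hK, pow_two, ← hF]
    refine Nat.mul_le_mul_left _ (le_trans ?_ (card_cen_le Z hK i))
    refine Nat.card_le_card_of_injective
      (fun g => (⟨(g.1 : ↥G₁), Sg_mono (MT.rel K) (T := fun r => r ∈ sup i ∧ r ∈ lev i.val)
        (T' := (· ∈ sup (cen i))) (fun r hr => (sup_lev i r hr.1).2 hr.2) (leadHom_ker Z hK i g.2)⟩ :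
          ↥(Sub (sup (cen i)) : Subgroup ↥G₁))) ?_
    intro a b h
    exact Subtype.ext (Subtype.ext (congrArg (fun g => g.1) h :))

/-- every parameter occurs in the root groups of the orbit -/
theorem exists_rep (i : Fin 12) (t : F) :
    ∃ g : ↥G₁, g ∈ (Sub (sup i) : Subgroup ↥G₁) ∧ Lead K m i (g : ↥(chevF4.group F)) t := by
  classical
  have h1 := card_sup Z hK i
  rw [← (leadHom Z hK i).ker.card_mul_index, Subgroup.index_ker, mul_comm (Nat.card F)] at h1
  have h2 : Nat.card (Multiplicative F) ≤ Nat.card ↥(leadHom Z hK i).range :=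
    Nat.le_of_mul_le_mul_left h1 Nat.card_pos
  have h3 : (leadHom Z hK i).range = ⊤ := Subgroup.eq_top_of_le_card _ h2
  obtain ⟨g, hg⟩ : Multiplicative.ofAdd t ∈ (leadHom Z hK i).range := by rw [h3]; trivial
  exact ⟨g.1, g.2, by have := leadHom_spec Z hK i g; rwa [hg] at this⟩

/-- the representative of a parameter in a factor -/
noncomputable def eF (i : Fin 12) (t : F) : ↥G₁ := (exists_rep Z hK i t).choose

theorem eF_sup (i : Fin 12) (t : F) : eF Z hK i t ∈ (Sub (sup i) : Subgroup ↥G₁) :=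
  (exists_rep Z hK i t).choose_spec.1

theorem eF_lead (i : Fin 12) (t : F) : Lead K m i (eF Z hK i t : ↥(chevF4.group F)) t :=
  (exists_rep Z hK i t).choose_spec.2

theorem eF_mem (i : Fin 12) (t : F) : eF Z hK i t ∈ (FlF (i.val + 1) : Subgroup ↥G₁) :=
  Sub_mono (fun r hr => (sup_lev i r hr).1) (eF_sup Z hK i t)

theorem FlF_dec (i : Fin 12) {g : ↥G₁} (hg : g ∈ (FlF (i.val + 1) : Subgroup ↥G₁)) :
    ∃ t, (eF Z hK i t)⁻¹ * g ∈ (FlF i.val : Subgroup ↥G₁) := by
  obtain ⟨t, ht⟩ := exists_lead Z hK i hg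
  refine ⟨t, ?_⟩
  have h := mul_mem (inv_mem (eF_lead Z hK i t)) ht
  show _ ∈ Sg (MT.rel K) (· ∈ lev i.val)
  simpa [mul_assoc] using h

theorem lead_of_low (i : Fin 12) {g h : ↥(chevF4.group F)} {t : F} (ht : Lead K m i g t)
    (hh : h ∈ Sg (MT.rel K) (· ∈ lev i.val)) : Lead K m i (g * h) t := by
  show _ ∈ _
  rw [← mul_assoc]
  exact mul_mem ht hh

theorem eF_inj (i : Fin 12) {t : F} (h : eF Z hK i t ∈ (FlF i.val : Subgroup ↥G₁)) : t = 0 :=
  lead_unique Z i (eF_lead Z hK i t) ((lead_zero Z hK i).2 h)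

theorem eF_add (i : Fin 12) (t u : F) :
    (eF Z hK i (t + u))⁻¹ * (eF Z hK i t * eF Z hK i u) ∈ (FlF i.val : Subgroup ↥G₁) := by
  have h := mul_mem (inv_mem (eF_lead Z hK i (t + u)))
    (lead_mul Z hK i (eF_lead Z hK i t) (eF_lead Z hK i u))
  show _ ∈ Sg (MT.rel K) (· ∈ lev i.val)
  simpa [mul_assoc] using h

end Cfsg.Agent.Twisted.TypeF4
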